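import Cfsg.Agent.Lib.Balance.Locals
import Cfsg.Agent.Lib.PSolvable.HallHigman

/-!
# Constrained groups with trivial core and their p-locals
-/

set_option autoImplicit false
open Cfsg

namespace Cfsg.Agent.Lib.SylowInter.CharLocal

variable {G : Type*} [Group G] {p : ℕ}

/-- `C(O_p) ≤ O_p` transports along isomorphisms. -/
theorem charP_congr {G' : Type*} [Group G'] (e : G ≃* G')
    (h : Subgroup.centralizer (pCore p G : Set G) ≤ pCore p G) :
    Subgroup.centralizer (pCore p G' : Set G') ≤ pCore p G' := by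
  intro x hx
  rw [← Cores.map_pCore_equiv e] at hx ⊢
  refine ⟨e.symm x, h (Subgroup.mem_centralizer_iff.2 fun y hy => e.injective ?_), e.apply_symm_apply x⟩
  simp only [map_mul, MulEquiv.apply_symm_apply]
  exact Subgroup.mem_centralizer_iff.1 hx _ ⟨y, hy, rfl⟩

/-- `C(O_p) ≤ O_p` is the same as `p`-constraint with trivial `p'`-core. -/
theorem charP_iff_constrained [Finite G] [Fact p.Prime] :
    Subgroup.centralizer (pCore p G : Set G) ≤ pCore p G ↔
      IsPConstrained p G ∧ pPrimeCore p G = ⊥ := by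
  constructor
  · intro h
    have h0 := Balance.pPrimeCore_eq_bot_of_centralizer_le h
    refine ⟨PSolvable.isPConstrained_iff.2 (charP_congr ?_ h), h0⟩
    exact ((QuotientGroup.quotientMulEquivOfEq h0).trans QuotientGroup.quotientBot).symm
  · rintro ⟨h, h0⟩
    exact charP_congr ((QuotientGroup.quotientMulEquivOfEq h0).trans QuotientGroup.quotientBot)
      (PSolvable.isPConstrained_iff.1 h)

/-- The normalizer of a `p`-subgroup inside a characteristic-`p` overgroup has characteristic `p`. -/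
theorem charP_normalizer_le [Finite G] [Fact p.Prime] {M T : Subgroup G}
    (hM : Subgroup.centralizer (pCore p ↥M : Set ↥M) ≤ pCore p ↥M) (hT : IsPGroup p ↥T)
    (hTM : Subgroup.normalizer (T : Set G) ≤ M) :
    Subgroup.centralizer (pCore p ↥(Subgroup.normalizer (T : Set G)) : Set ↥(Subgroup.normalizer (T : Set G)))
      ≤ pCore p ↥(Subgroup.normalizer (T : Set G)) := by
  have hT' : T ≤ M := Subgroup.le_normalizer.trans hTM
  have h := Balance.centralizer_pCore_le_normalizer hM
    (P := T.subgroupOf M) (hT.of_equiv (Subgroup.subgroupOfEquivOfLe hT').symm)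
  refine charP_congr ((MulEquiv.subgroupCongr ?_).trans (Subgroup.subgroupOfEquivOfLe hTM)) h
  exact (Subgroup.subgroupOf_normalizer_eq hT').symm

/-- Any 2-local lies in a maximal one. -/
theorem exists_maximal_twoLocal [Finite G] {T : Subgroup G} (hT : IsPGroup 2 ↥T) (hT1 : T ≠ ⊥) :
    ∃ M : Subgroup G, IsMaximalTwoLocal M ∧ Subgroup.normalizer (T : Set G) ≤ M := by
  obtain ⟨M, ⟨hM, hle⟩, hmax⟩ := (Set.toFinite {M : Subgroup G | IsTwoLocal M ∧
      Subgroup.normalizer (T : Set G) ≤ M}).exists_maximal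
    ⟨_, ⟨T, hT, hT1, rfl⟩, le_rfl⟩
  exact ⟨M, ⟨hM, fun N hN hMN => le_antisymm (hmax ⟨hN, hle.trans hMN⟩ hMN) hMN⟩, hle⟩

/-- An involution without fixed points on a group of odd order inverts it. -/
theorem inverts_of_fpf [Finite G] {X : Subgroup G} (hX : Odd (Nat.card X)) {t : G} (ht : t * t = 1)
    (hn : ∀ x ∈ X, t * x * t ∈ X) (hC : ∀ x ∈ X, t * x = x * t → x = 1) :
    ∀ x ∈ X, t * x * t = x⁻¹ := by
  intro x hx
  let f : ↥X → ↥X := fun y => ⟨(y : G)⁻¹ * (t * y * t), X.mul_mem (X.inv_mem y.2) (hn y y.2)⟩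
  have hinj : Function.Injective f := by
    intro a b hab
    have h : (a : G)⁻¹ * (t * a * t) = (b : G)⁻¹ * (t * b * t) := congrArg Subtype.val hab
    have h1 : t * ((b : G) * (a : G)⁻¹) = ((b : G) * (a : G)⁻¹) * t := by
      calc t * ((b : G) * (a : G)⁻¹) = t * b * (t * t) * (a : G)⁻¹ := by rw [ht]; group
        _ = b * ((b : G)⁻¹ * (t * b * t)) * (t * (a : G)⁻¹) := by group
        _ = b * ((a : G)⁻¹ * (t * a * t)) * (t * (a : G)⁻¹) := by rw [h]
        _ = b * (a : G)⁻¹ * t * a * (t * t) * (a : G)⁻¹ := by group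
        _ = _ := by rw [ht]; group
    have := hC _ (X.mul_mem b.2 (X.inv_mem a.2)) h1
    exact Subtype.ext (mul_inv_eq_one.1 this).symm
  obtain ⟨y, hy⟩ := Finite.surjective_of_injective hinj ⟨x, hx⟩
  have h : (y : G)⁻¹ * (t * y * t) = x := congrArg Subtype.val hy
  rw [← h]
  calc t * ((y : G)⁻¹ * (t * y * t)) * t = t * (y : G)⁻¹ * t * y * (t * t) := by group
    _ = t⁻¹ * (y : G)⁻¹ * t⁻¹ * y := by rw [ht, inv_eq_of_mul_eq_one_right ht]; group
    _ = _ := by group

end Cfsg.Agent.Lib.SylowInter.CharLocal
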