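import Cfsg.Agent.Lib.Cores.Basic
import Mathlib.GroupTheory.SpecificGroups.Cyclic
import Cfsg.Prelude.Def_CaseTheorems

/-!
# Finite groups with small Sylow intersections: basic tools
-/

set_option autoImplicit false
open Cfsg
open Cfsg.Agent.Lib.Cores

namespace Cfsg.Agent.Lib.SylowInter.Basic

variable {G : Type*} [Group G]

/-- If `O_{p'}(G) = 1` then `F(G) = O_p(G)`. -/
theorem fitting_eq_pCore [Finite G] (p : ℕ) [hp : Fact p.Prime] (h : pPrimeCore p G = ⊥) :
    fittingSubgroup G = pCore p G := by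
  rw [fittingSubgroup_eq_iSup_pCore]
  refine le_antisymm (iSup_le fun q => ?_) (le_iSup_of_le ⟨p, hp.out⟩ le_rfl)
  by_cases hq : (q : ℕ) = p
  · rw [hq]
  haveI : Fact (q : ℕ).Prime := ⟨q.2⟩
  have : pCore (q : ℕ) G ≤ pPrimeCore p G := by
    apply le_pPrimeCore
    obtain ⟨n, hn⟩ := IsPGroup.iff_card.1 (pCore_isPGroup (G := G) (q : ℕ))
    rw [hn]
    exact ((Nat.coprime_primes q.2 hp.out).2 hq).pow_left n
  exact (h ▸ this).trans bot_le

/-- A solvable group with `O_{p'}(G) = 1` is `p`-constrained. -/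
theorem centralizer_pCore_le [Finite G] [Group.IsSolvable G] (p : ℕ) [hp : Fact p.Prime]
    (h : pPrimeCore p G = ⊥) :
    Subgroup.centralizer (pCore p G : Set G) ≤ pCore p G := by
  have := centralizer_fittingSubgroup_le (G := G)
  rwa [fitting_eq_pCore p h] at this

/-- The conjugation action of `G` on a normal subgroup has kernel the centralizer. -/
theorem ker_conjNormal (N : Subgroup G) [N.Normal] :
    (MulAut.conjNormal : G →* MulAut ↥N).ker = Subgroup.centralizer (N : Set G) := by
  ext g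
  rw [MonoidHom.mem_ker, Subgroup.mem_centralizer_iff]
  constructor
  · intro hg n hn
    have := congrArg (fun e : MulAut ↥N => ((e ⟨n, hn⟩ : ↥N) : G)) hg
    simp only [MulAut.conjNormal_apply, MulAut.one_apply] at this
    exact (mul_inv_eq_iff_eq_mul.1 this).symm
  · intro hg
    ext n
    simp only [MulAut.conjNormal_apply, MulAut.one_apply]
    rw [mul_inv_eq_iff_eq_mul]
    exact (hg n n.2).symm

/-- A group is a `p`-group if it has a `p`-group centralizer of a normal subgroup with `p`-group automorphisms. -/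
theorem isPGroup_of_aut [Finite G] {p : ℕ} [Fact p.Prime] (N : Subgroup G) [N.Normal]
    (hC : IsPGroup p ↥(Subgroup.centralizer (N : Set G))) (hA : IsPGroup p (MulAut ↥N)) : IsPGroup p G := by
  intro g
  obtain ⟨k, hk⟩ := hA (MulAut.conjNormal g)
  rw [← map_pow] at hk
  have hm : g ^ p ^ k ∈ Subgroup.centralizer (N : Set G) := by
    rw [← ker_conjNormal]; exact hk
  obtain ⟨l, hl⟩ := hC ⟨_, hm⟩
  refine ⟨k + l, ?_⟩
  have := congrArg Subtype.val hl
  simpa [pow_add, pow_mul] using this

/-- Automorphisms of a cyclic 2-group form a 2-group. -/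
theorem isPGroup_mulAut_of_cyclic {Q : Type*} [Group Q] [Finite Q] [IsCyclic Q] (hQ : IsPGroup 2 Q) :
    IsPGroup 2 (MulAut Q) := by
  obtain ⟨n, hn⟩ := IsPGroup.iff_card.1 hQ
  rcases n with _ | n
  · refine IsPGroup.of_card (n := 0) ?_
    rw [IsCyclic.card_mulAut, hn]
    rfl
  · refine IsPGroup.of_card (n := n) ?_
    rw [IsCyclic.card_mulAut, hn, Nat.totient_prime_pow_succ Nat.prime_two]
    simp

end Cfsg.Agent.Lib.SylowInter.Basic
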