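import Cfsg.Agent.Lib.SylowInter.CyclicTwoCentral

/-!
# Solvable normal subgroups under cyclic Sylow 2-intersections

If groups of odd order are solvable and `G` is a non-solvable group in which distinct Sylow
2-subgroups have cyclic intersection, then a solvable normal subgroup maps onto a central cyclic
2-subgroup of `G / O(G)`.
-/

set_option autoImplicit false

open scoped Pointwise

namespace Cfsg.Agent.Lib.SylowInter.CyclicTwoRadical

universe u

variable {G : Type u} [Group G] [Finite G]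

/-- Cyclic intersections pass to quotients. -/
theorem inter_map {Q : Type u} [Group Q] {π : G →* Q} (hf : Function.Surjective π)
    (hC : ∀ S T : Sylow 2 G, S ≠ T → IsCyclic ↥((S : Subgroup G) ⊓ (T : Subgroup G)))
    (S' T' : Sylow 2 Q) (hne : S' ≠ T') : IsCyclic ↥((S' : Subgroup Q) ⊓ (T' : Subgroup Q)) := by
  obtain ⟨S, rfl⟩ := Sylow.mapSurjective_surjective hf 2 S'
  obtain ⟨T, rfl⟩ := Sylow.mapSurjective_surjective hf 2 T'
  have : Finite Q := Finite.of_surjective π hf
  set M := ((T : Subgroup G).map π).comap π with hMdef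
  have hTM : (T : Subgroup G) ≤ M := Subgroup.le_comap_map π _
  set X := (S : Subgroup G) ⊓ M with hX
  have hX2 : IsPGroup 2 X := S.2.to_le inf_le_left
  obtain ⟨P, hP⟩ := (hX2.of_equiv
    (Subgroup.subgroupOfEquivOfLe (inf_le_right : X ≤ M)).symm).exists_le_sylow
  obtain ⟨m, hm⟩ := MulAction.exists_smul_eq M (T.subtype hTM) P
  set T₁ := (m : G) • T with hT₁
  have hXT : X ≤ (T₁ : Subgroup G) := by
    intro x hx
    have h1 : (⟨x, hx.2⟩ : M) ∈ (P : Subgroup M) := hP hx
    rw [← hm, Sylow.coe_subgroup_smul, Subgroup.mem_pointwise_smul_iff_inv_smul_mem] at h1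
    rw [hT₁, Sylow.coe_subgroup_smul, Subgroup.mem_pointwise_smul_iff_inv_smul_mem]
    rw [MulAut.smul_def, MulAut.conj_inv_apply] at h1 ⊢
    exact h1
  have hmap : (T₁ : Subgroup G).map π = (T : Subgroup G).map π := by
    refine Subgroup.eq_of_le_of_card_ge ?_ ?_
    · rintro _ ⟨x, hx, rfl⟩
      rw [hT₁, Sylow.coe_subgroup_smul, SetLike.mem_coe,
        Subgroup.mem_pointwise_smul_iff_inv_smul_mem, MulAut.smul_def, MulAut.conj_inv_apply] at hx
      have hxm : π x = π m * π ((m : G)⁻¹ * x * m) * (π m)⁻¹ := by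
        rw [← map_inv, ← map_mul, ← map_mul]
        exact congrArg π (by group)
      rw [hxm]
      exact Subgroup.mul_mem _ (Subgroup.mul_mem _ m.2 (Subgroup.mem_map_of_mem π hx))
        (Subgroup.inv_mem _ m.2)
    · exact le_of_eq ((Sylow.card_eq_multiplicity (T.mapSurjective hf)).trans
        (Sylow.card_eq_multiplicity (T₁.mapSurjective hf)).symm)
  have hST : S ≠ T₁ := fun h => hne (Sylow.ext (by
    show (S : Subgroup G).map π = (T : Subgroup G).map π
    rw [h, hmap]))
  have := hC S T₁ hST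
  have hXc : IsCyclic X := Subgroup.isCyclic_of_le (le_inf inf_le_left hXT)
  have himg : (S.mapSurjective hf : Subgroup Q) ⊓ (T.mapSurjective hf : Subgroup Q) ≤ X.map π := by
    rintro y ⟨⟨x, hx, rfl⟩, hy⟩
    exact Subgroup.mem_map_of_mem π ⟨hx, hy⟩
  have hXm : IsCyclic ↥(X.map π) :=
    isCyclic_of_surjective (π.subgroupMap X) (π.subgroupMap_surjective X)
  exact Subgroup.isCyclic_of_le himg

/-- The case of trivial odd core. -/
theorem of_oddFree (hFT : ∀ (H : Type u) [Group H] [Finite H], Odd (Nat.card H) → Group.IsSolvable H)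
    (hns : ¬ Group.IsSolvable G)
    (hC : ∀ S T : Sylow 2 G, S ≠ T → IsCyclic ↥((S : Subgroup G) ⊓ (T : Subgroup G)))
    (hO : Cfsg.pPrimeCore 2 G = ⊥) (N : Subgroup G) [N.Normal] (hN : Group.IsSolvable ↥N) :
    IsCyclic ↥N ∧ IsPGroup 2 ↥N ∧ N ≤ Subgroup.center G := by
  have hmov : ∃ S T : Sylow 2 G, S ≠ T := by
    by_contra h
    push Not at h
    obtain ⟨S⟩ := (inferInstance : Nonempty (Sylow 2 G))
    have : Subsingleton (Sylow 2 G) := ⟨h⟩
    have hSn : (S : Subgroup G).Normal := Sylow.normal_of_subsingleton S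
    have hQ : Group.IsSolvable (G ⧸ (S : Subgroup G)) := hFT _ (by
      rw [← Subgroup.index_eq_card]
      exact Nat.odd_iff.2 (Nat.two_dvd_ne_zero.1 S.not_dvd_index))
    have hS : Group.IsNilpotent (S : Subgroup G) := S.2.isNilpotent
    exact hns (Group.isSolvable_of_ker_le_range (S : Subgroup G).subtype
      (QuotientGroup.mk' (S : Subgroup G)) (by rw [QuotientGroup.ker_mk', Subgroup.range_subtype]))
  have hodd1 : ∀ M : Subgroup G, M.Normal → Odd (Nat.card M) → M = ⊥ := fun M hM ho =>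
    le_bot_iff.1 (hO ▸ Cores.le_pPrimeCore (p := 2) (Nat.coprime_two_right.2 ho))
  obtain ⟨S, T, hne⟩ := hmov
  have hRS : ∀ P : Sylow 2 G, Cfsg.pCore 2 G ≤ (P : Subgroup G) := fun P =>
    Cores.pCore_le_sylow P
  have hRn : (Cfsg.pCore 2 G).Normal := inferInstance
  have := hC S T hne
  have hRc : IsCyclic ↥(Cfsg.pCore 2 G) := Subgroup.isCyclic_of_le (le_inf (hRS S) (hRS T))
  have hcen := CyclicTwoCentral.le_center (Cores.pCore_isPGroup 2) hC hodd1 ⟨S, T, hne⟩
  have hN2 : IsPGroup 2 ↥N := by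
    have hON : Cfsg.pPrimeCore 2 N = ⊥ := by
      have h1 : (Cfsg.pPrimeCore 2 N).map N.subtype = ⊥ := by
        refine hodd1 _ (Cores.normal_map_subtype N _) ?_
        rw [Subgroup.card_map_of_injective N.subtype_injective, ← Nat.coprime_two_right]
        exact Cores.pPrimeCore_coprime 2
      rwa [Subgroup.map_eq_bot_iff_of_injective _ N.subtype_injective] at h1
    have hcc := Basic.centralizer_pCore_le (G := N) 2 hON
    have hle : (Cfsg.pCore 2 N).map N.subtype ≤ Cfsg.pCore 2 G := by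
      have := Cores.normal_map_subtype N (Cfsg.pCore 2 N)
      exact Cores.le_pCore ((Cores.pCore_isPGroup 2).map _)
    have hcy : IsCyclic ↥((Cfsg.pCore 2 N).map N.subtype) := Subgroup.isCyclic_of_le hle
    have : IsCyclic ↥(Cfsg.pCore 2 N) := isCyclic_of_surjective
      ((Cfsg.pCore 2 N).equivMapOfInjective _ N.subtype_injective).symm.toMonoidHom
      ((Cfsg.pCore 2 N).equivMapOfInjective _ N.subtype_injective).symm.surjective
    exact Basic.isPGroup_of_aut (Cfsg.pCore 2 N) ((Cores.pCore_isPGroup 2).to_le hcc)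
      (Basic.isPGroup_mulAut_of_cyclic (Cores.pCore_isPGroup 2))
  have hNR : N ≤ Cfsg.pCore 2 G := Cores.le_pCore hN2
  exact ⟨Subgroup.isCyclic_of_le hNR, hN2, hNR.trans hcen⟩

/-- Solvable normal subgroups modulo the odd core. -/
theorem main (hFT : ∀ (H : Type u) [Group H] [Finite H], Odd (Nat.card H) → Group.IsSolvable H)
    (hns : ¬ Group.IsSolvable G)
    (hC : ∀ S T : Sylow 2 G, S ≠ T → IsCyclic ↥((S : Subgroup G) ⊓ (T : Subgroup G)))
    (N : Subgroup G) [N.Normal] (hN : Group.IsSolvable ↥N) :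
    IsCyclic ↥(N.map (QuotientGroup.mk' (Cfsg.pPrimeCore 2 G))) ∧
      IsPGroup 2 ↥(N.map (QuotientGroup.mk' (Cfsg.pPrimeCore 2 G))) ∧
      N.map (QuotientGroup.mk' (Cfsg.pPrimeCore 2 G)) ≤
        Subgroup.center (G ⧸ Cfsg.pPrimeCore 2 G) := by
  set O := Cfsg.pPrimeCore 2 G with hOdef
  have hOs : Group.IsSolvable O :=
    hFT _ (Nat.coprime_two_right.1 (Cores.pPrimeCore_coprime 2))
  have hns' : ¬ Group.IsSolvable (G ⧸ O) := fun h =>
    hns (Group.isSolvable_of_ker_le_range O.subtype (QuotientGroup.mk' O)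
      (by rw [QuotientGroup.ker_mk', Subgroup.range_subtype]))
  have hNn : (N.map (QuotientGroup.mk' O)).Normal :=
    (inferInstance : N.Normal).map _ (QuotientGroup.mk'_surjective O)
  have hNs : Group.IsSolvable ↥(N.map (QuotientGroup.mk' O)) :=
    Group.isSolvable_of_surjective ((QuotientGroup.mk' O).subgroupMap_surjective N)
  exact of_oddFree hFT hns' (inter_map (QuotientGroup.mk'_surjective O) hC)
    (Cores.pPrimeCore_quotient_pPrimeCore 2) _ hNs

end Cfsg.Agent.Lib.SylowInter.CyclicTwoRadical
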