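import Mathlib
import Cfsg.Agent.Lib.Cores.Basic
import Cfsg.Agent.Lib.Involutions.Basic

/-!
# Small tools for groups with cyclic intersections of Sylow 2-subgroups
-/

set_option autoImplicit false

open scoped Pointwise

namespace Cfsg.Agent.Lib.SylowInter.CyclicTwoTools

variable {G : Type*} [Group G]

/-- If two coprime powers of an element lie in a subgroup, so does the element. -/
theorem mem_of_pow_coprime {H : Subgroup G} {x : G} {a b : ℕ} (hab : a.Coprime b) (ha : x ^ a ∈ H)
    (hb : x ^ b ∈ H) : x ∈ H := by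
  have h := Nat.gcd_eq_gcd_ab a b
  rw [hab.gcd_eq_one, Nat.cast_one] at h
  have h2 := congrArg (fun z : ℤ => x ^ z) h
  simp only [zpow_one, zpow_add, zpow_mul, zpow_natCast] at h2
  rw [h2]
  exact H.mul_mem (H.zpow_mem ha _) (H.zpow_mem hb _)

/-- The decomposition of the order of an element. -/
theorem exists_order_split [Finite G] (x : G) :
    ∃ e o : ℕ, Odd o ∧ orderOf x = 2 ^ e * o ∧ (x ^ o) ^ 2 ^ e = 1 ∧ (x ^ 2 ^ e) ^ o = 1 := by
  obtain ⟨e, o, ho, he⟩ := Nat.exists_eq_two_pow_mul_odd (orderOf_pos x).ne'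
  refine ⟨e, o, ho, he, ?_, ?_⟩
  · rw [← pow_mul, mul_comm, ← he, pow_orderOf_eq_one]
  · rw [← pow_mul, ← he, pow_orderOf_eq_one]

/-- A group element of `2`-power order generates a `2`-group. -/
theorem isPGroup_zpowers {x : G} {k : ℕ} (h : x ^ 2 ^ k = 1) : IsPGroup 2 (Subgroup.zpowers x) := by
  rintro ⟨y, hy⟩
  obtain ⟨i, rfl⟩ := Subgroup.mem_zpowers_iff.1 hy
  refine ⟨k, Subtype.ext ?_⟩
  simp only [SubmonoidClass.coe_pow, OneMemClass.coe_one]
  rw [← zpow_natCast, ← zpow_mul, mul_comm, zpow_mul, zpow_natCast, h, one_zpow]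

theorem exists_pow_of_mem {P : Subgroup G} (hP : IsPGroup 2 P) {x : G} (hx : x ∈ P) :
    ∃ k : ℕ, x ^ 2 ^ k = 1 := by
  obtain ⟨k, hk⟩ := hP ⟨x, hx⟩
  exact ⟨k, congrArg Subtype.val hk⟩

/-- An element whose order divides an odd number and a power of two is trivial. -/
theorem eq_one_of_odd_of_two {x : G} {k o : ℕ} (ho : Odd o) (hx : x ^ o = 1) (h2 : x ^ 2 ^ k = 1) :
    x = 1 :=
  Subgroup.mem_bot.1 (mem_of_pow_coprime (Nat.Coprime.pow_right k (Nat.coprime_two_right.2 ho))
    (Subgroup.mem_bot.2 hx) (Subgroup.mem_bot.2 h2))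

theorem exists_sylow_mem [Finite G] {x : G} {k : ℕ} (h : x ^ 2 ^ k = 1) :
    ∃ S : Sylow 2 G, x ∈ (S : Subgroup G) :=
  have ⟨S, hS⟩ := (isPGroup_zpowers h).exists_le_sylow
  ⟨S, hS (Subgroup.mem_zpowers x)⟩

/-- In a cyclic subgroup, elements whose order divides the order of a subgroup lie in it. -/
theorem mem_of_pow_card [Finite G] {K H : Subgroup G} [IsCyclic K] (hHK : H ≤ K) {x : G}
    (hxK : x ∈ K) (hx : x ^ Nat.card H = 1) : x ∈ H := by
  classical
  have := Fintype.ofFinite K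
  have hsub : (Finset.univ.filter fun y : K => (y : G) ∈ H) ⊆
      Finset.univ.filter fun y : K => y ^ Nat.card H = 1 := by
    intro y hy
    simp only [Finset.mem_filter, Finset.mem_univ, true_and] at hy ⊢
    refine Subtype.ext ?_
    rw [SubmonoidClass.coe_pow, OneMemClass.coe_one]
    exact congrArg Subtype.val (pow_card_eq_one' (G := H) (x := ⟨(y : G), hy⟩))
  have hc : (Finset.univ.filter fun y : K => (y : G) ∈ H).card = Nat.card H := by
    rw [← Fintype.card_subtype, ← Nat.card_eq_fintype_card]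
    exact Nat.card_congr (Subgroup.subgroupOfEquivOfLe hHK).toEquiv
  have heq := Finset.eq_of_subset_of_card_le hsub
    (hc.symm ▸ IsCyclic.card_pow_eq_one_le Nat.card_pos)
  have hmem : (⟨x, hxK⟩ : K) ∈ Finset.univ.filter fun y : K => y ^ Nat.card H = 1 := by
    simpa only [Finset.mem_filter, Finset.mem_univ, true_and] using Subtype.ext hx
  rw [← heq] at hmem
  simpa only [Finset.mem_filter, Finset.mem_univ, true_and] using hmem

/-- A cyclic subgroup has at most one involution. -/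
theorem invol_eq [Finite G] {K : Subgroup G} [IsCyclic K] {a b : G} (ha : a ∈ K) (hb : b ∈ K)
    (ha2 : orderOf a = 2) (hb2 : orderOf b = 2) : a = b := by
  have h : a ∈ Subgroup.zpowers b := mem_of_pow_card (K := K) (Subgroup.zpowers_le.2 hb) ha
    (by rw [Nat.card_zpowers, hb2, ← ha2, pow_orderOf_eq_one])
  obtain ⟨i, hi⟩ := Subgroup.mem_zpowers_iff.1 h
  rcases Int.even_or_odd i with ⟨j, rfl⟩ | ⟨j, rfl⟩
  · rw [zpow_add, ← (Commute.refl b).mul_zpow, Involutions.Basic.invol_mul_self hb2, one_zpow] at hi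
    exact absurd hi.symm (Involutions.Basic.invol_ne_one ha2)
  · rw [zpow_add, zpow_mul, zpow_two, Involutions.Basic.invol_mul_self hb2, one_zpow, one_mul,
      zpow_one] at hi
    exact hi.symm

/-- Elements of a cyclic subgroup commute. -/
theorem commute_of_mem {K : Subgroup G} [IsCyclic K] {a b : G} (ha : a ∈ K) (hb : b ∈ K) :
    Commute a b := by
  obtain ⟨g, hg⟩ := IsCyclic.exists_generator (α := K)
  obtain ⟨i, hi⟩ := Subgroup.mem_zpowers_iff.1 (hg ⟨a, ha⟩)
  obtain ⟨j, hj⟩ := Subgroup.mem_zpowers_iff.1 (hg ⟨b, hb⟩)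
  exact congrArg Subtype.val ((hi ▸ hj ▸ Commute.zpow_zpow (Commute.refl g) i j) :
    Commute (⟨a, ha⟩ : K) ⟨b, hb⟩)

/-- Conjugates of elements of a Sylow subgroup lie in the conjugate Sylow subgroup. -/
theorem conj_mem_smul {p : ℕ} {S : Sylow p G} {x : G} (hx : x ∈ (S : Subgroup G)) (g : G) :
    g * x * g⁻¹ ∈ ((g • S : Sylow p G) : Subgroup G) := by
  rw [Sylow.coe_subgroup_smul]
  exact Subgroup.smul_mem_pointwise_smul x (MulAut.conj g) _ hx

/-- An element of `2`-power order normalising a Sylow `2`-subgroup lies in it. -/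
theorem mem_of_smul_eq [Finite G] {S : Sylow 2 G} {x : G} {k : ℕ} (h : x ^ 2 ^ k = 1)
    (hx : x • S = S) : x ∈ (S : Subgroup G) := by
  have hN : x ∈ Subgroup.normalizer ((S : Subgroup G) : Set G) := Sylow.smul_eq_iff_mem_normalizer.1 hx
  have := (isPGroup_zpowers h).inf_normalizer_sylow S
  have hm : x ∈ Subgroup.zpowers x ⊓ Subgroup.normalizer ((S : Subgroup G) : Set G) :=
    ⟨Subgroup.mem_zpowers x, hN⟩
  exact (this.le hm).2

/-- A generalised quaternion group has no central element of order four. -/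
theorem quaternion_central_sq {n : ℕ} (hn : 1 ≤ n) (q : QuaternionGroup (2 ^ n))
    (hq : ∀ r, q * r = r * q) : q * q = 1 := by
  have h4 : (2 : ZMod (2 * 2 ^ n)) ≠ 0 := by
    intro h
    have hd := (ZMod.natCast_eq_zero_iff 2 (2 * 2 ^ n)).1 (by exact_mod_cast h)
    have h2 : 2 ≤ 2 ^ n := le_self_pow₀ one_le_two (by omega)
    have := Nat.le_of_dvd two_pos hd
    omega
  rcases q with i | i
  · have h := hq (QuaternionGroup.xa 0)
    rw [QuaternionGroup.a_mul_xa, QuaternionGroup.xa_mul_a, zero_sub, zero_add] at h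
    have h' : -i = i := QuaternionGroup.xa.inj h
    rw [QuaternionGroup.a_mul_a, QuaternionGroup.one_def]
    congr 1
    nth_rewrite 1 [← h']
    exact neg_add_cancel i
  · have h := hq (QuaternionGroup.a 1)
    rw [QuaternionGroup.a_mul_xa, QuaternionGroup.xa_mul_a] at h
    have h' := QuaternionGroup.xa.inj h
    exact absurd (by linear_combination h') h4

end Cfsg.Agent.Lib.SylowInter.CyclicTwoTools
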