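import Cfsg.Agent.Lib.Frobenius.FixedPointFree
import Mathlib.GroupTheory.Frattini
import Mathlib.GroupTheory.Nilpotent
import Mathlib.GroupTheory.PGroup
import Mathlib.Data.Nat.Choose.Dvd

/-!
# Odd `p`-groups with one subgroup of order `p`, and fixed-point-free odd `p`-groups
-/

set_option autoImplicit false

namespace Cfsg.Agent.Lib.SylowInter.OddCyclic

variable {G : Type*} [Group G]

theorem mul_pow_of_central {x y c : G} (hc : ∀ g : G, Commute c g) (hxy : y * x = x * y * c) :
    ∀ n : ℕ, (x * y) ^ n = x ^ n * y ^ n * c ^ n.choose 2 := by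
  have hyn : ∀ n : ℕ, y ^ n * x = x * y ^ n * c ^ n := by
    intro n
    induction n with
    | zero => simp
    | succ n ih =>
      calc y ^ (n + 1) * x = y * (y ^ n * x) := by rw [pow_succ', mul_assoc]
        _ = y * x * y ^ n * c ^ n := by rw [ih]; simp [mul_assoc]
        _ = x * y * (c * y ^ n) * c ^ n := by rw [hxy]; simp [mul_assoc]
        _ = x * y ^ (n + 1) * c ^ (n + 1) := by
          rw [(hc _).eq, pow_succ', pow_succ']; simp [mul_assoc]
  intro n
  induction n with
  | zero => simp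
  | succ n ih =>
    calc (x * y) ^ (n + 1) = x ^ n * y ^ n * c ^ n.choose 2 * (x * y) := by rw [pow_succ, ih]
      _ = x ^ n * (y ^ n * x) * y * c ^ n.choose 2 := by
        rw [mul_assoc _ (c ^ n.choose 2), ((hc (x * y)).pow_left _).eq]; simp [mul_assoc]
      _ = x ^ n * x * y ^ n * (c ^ n * y) * c ^ n.choose 2 := by rw [hyn]; simp [mul_assoc]
      _ = x ^ (n + 1) * y ^ (n + 1) * c ^ (n + 1).choose 2 := by
        rw [((hc y).pow_left n).eq, pow_succ, pow_succ, Nat.choose_succ_succ, Nat.choose_one_right,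
          pow_add]
        simp [mul_assoc]

/-- An odd `p`-group with at most one subgroup of order `p` is cyclic. -/
theorem isCyclic_of_unique [Finite G] {p : ℕ} [hp : Fact p.Prime] (hp2 : p ≠ 2) (hG : IsPGroup p G)
    (huniq : ∀ x y : G, orderOf x = p → y ^ p = 1 → y ∈ Subgroup.zpowers x) : IsCyclic G := by
  suffices ∀ n, ∀ H : Subgroup G, Nat.card H = n → IsCyclic H by
    haveI := this _ ⊤ rfl
    exact isCyclic_of_surjective (Subgroup.topEquiv : (⊤ : Subgroup G) ≃* G).toMonoidHom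
      Subgroup.topEquiv.surjective
  intro n
  induction n using Nat.strong_induction_on with
  | _ n ih =>
  intro H hH
  have hHp : IsPGroup p H := hG.to_subgroup H
  haveI : Group.IsNilpotent H := hHp.isNilpotent
  have hmaxn : ∀ M : Subgroup H, IsCoatom M → M.Normal :=
    fun M hM => Subgroup.NormalizerCondition.normal_of_coatom M Group.normalizerCondition_of_isNilpotent hM
  have hsubcyc : ∀ M : Subgroup H, M ≠ ⊤ → IsCyclic M := by
    intro M hM
    have hlt : Nat.card M < n := by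
      rw [← hH]
      exact lt_of_le_of_ne (Subgroup.card_le_card_group M) (fun h => hM (Subgroup.eq_top_of_card_eq M h))
    have hc := ih _ hlt (M.map H.subtype)
      (Subgroup.card_map_of_injective H.subtype_injective)
    exact isCyclic_of_surjective (M.equivMapOfInjective _ H.subtype_injective).symm.toMonoidHom
      (MulEquiv.surjective _)
  by_contra hncyc
  haveI : Nontrivial H := by
    by_contra hnt
    rw [not_nontrivial_iff_subsingleton] at hnt
    exact hncyc inferInstance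
  obtain ⟨M₁, hM₁, -⟩ := IsCoatomic.eq_top_or_exists_le_coatom (⊥ : Subgroup H) |>.resolve_left bot_ne_top
  obtain ⟨a, ha⟩ : ∃ a : H, a ∉ M₁ := by
    by_contra h; push_neg at h; exact hM₁.1 ((Subgroup.eq_top_iff' _).2 h)
  obtain ⟨M₂, hM₂, haM₂⟩ := (IsCoatomic.eq_top_or_exists_le_coatom (Subgroup.zpowers a)).resolve_left
    (fun h => hncyc ⟨⟨a, fun x => Subgroup.mem_zpowers_iff.1 (h ▸ Subgroup.mem_top x)⟩⟩)
  have hne : M₁ ≠ M₂ := fun h => ha (h ▸ haM₂ (Subgroup.mem_zpowers a))
  have hsup : M₁ ⊔ M₂ = ⊤ :=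
    hM₁.2 _ (lt_of_le_of_ne le_sup_left fun h =>
      hne ((hM₂.le_iff.1 (h ▸ le_sup_right : M₂ ≤ M₁)).resolve_left hM₁.1))
  haveI := hsubcyc M₁ hM₁.1
  haveI := hsubcyc M₂ hM₂.1
  haveI := hmaxn M₁ hM₁
  haveI := hmaxn M₂ hM₂
  set Z := M₁ ⊓ M₂ with hZ
  have hZc : Z ≤ Subgroup.center H := by
    intro z hz
    rw [Subgroup.mem_center_iff]
    intro g
    have h1 : ∀ x ∈ M₁, x * z = z * x := fun x hx =>
      congrArg Subtype.val (mul_comm' (⟨x, hx⟩ : M₁) ⟨z, hz.1⟩)
    have h2 : ∀ x ∈ M₂, x * z = z * x := fun x hx =>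
      congrArg Subtype.val (mul_comm' (⟨x, hx⟩ : M₂) ⟨z, hz.2⟩)
    have hle : M₁ ⊔ M₂ ≤ Subgroup.centralizer {z} :=
      sup_le (fun x hx => Subgroup.mem_centralizer_singleton_iff.2 (h1 x hx))
        (fun x hx => Subgroup.mem_centralizer_singleton_iff.2 (h2 x hx))
    exact Subgroup.mem_centralizer_singleton_iff.1 (hle (hsup ▸ Subgroup.mem_top g))
  have hidx : ∀ M : Subgroup H, IsCoatom M → M.index = p := by
    intro M hM
    haveI := hmaxn M hM
    obtain ⟨k, hk⟩ := hHp.index M
    have hk0 : k ≠ 0 := fun h => hM.1 (Subgroup.index_eq_one.1 (by rw [hk, h, pow_zero]))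
    obtain ⟨q, hq⟩ := exists_prime_orderOf_dvd_card' (G := H ⧸ M) p
      (by rw [← Subgroup.index_eq_card, hk]; exact dvd_pow_self p hk0)
    have htop : (Subgroup.zpowers q).comap (QuotientGroup.mk' M) = ⊤ := by
      refine hM.2 _ (lt_of_le_of_ne ?_ ?_)
      · intro x hx
        simp [(QuotientGroup.eq_one_iff x).2 hx]
      · intro h
        obtain ⟨x, rfl⟩ := QuotientGroup.mk'_surjective M q
        have hx : x ∈ M := h ▸ Subgroup.mem_zpowers _
        rw [QuotientGroup.mk'_apply, (QuotientGroup.eq_one_iff x).2 hx, orderOf_one] at hq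
        exact hp.out.ne_one hq.symm
    have := congrArg Subgroup.index htop
    rw [Subgroup.index_comap_of_surjective _ (QuotientGroup.mk'_surjective M), Subgroup.index_top] at this
    have h2 := (Subgroup.zpowers q).card_mul_index
    rw [this, mul_one, Nat.card_zpowers, hq, ← Subgroup.index_eq_card] at h2
    exact h2.symm
  have hpow : ∀ x : H, x ^ p ∈ Z := fun x => by
    have h1 := Subgroup.pow_index_mem M₁ x
    have h2 := Subgroup.pow_index_mem M₂ x
    rw [hidx M₁ hM₁] at h1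
    rw [hidx M₂ hM₂] at h2
    exact ⟨h1, h2⟩
  have hcomm : ∀ x y : H, x⁻¹ * y⁻¹ * x * y ∈ Z := by
    intro x y
    haveI : ∀ M : Subgroup H, IsCoatom M → ∀ [M.Normal], ∀ u v : H ⧸ M, u * v = v * u := by
      intro M hM _ u v
      haveI : IsCyclic (H ⧸ M) := isCyclic_of_prime_card (p := p) (by rw [← Subgroup.index_eq_card, hidx M hM])
      exact mul_comm' u v
    constructor
    · refine (QuotientGroup.eq_one_iff (N := _) _).1 ?_
      simp only [QuotientGroup.mk_mul, QuotientGroup.mk_inv]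
      rw [mul_assoc, this M₁ hM₁ (x : H ⧸ M₁) y]; group
    · refine (QuotientGroup.eq_one_iff (N := _) _).1 ?_
      simp only [QuotientGroup.mk_mul, QuotientGroup.mk_inv]
      rw [mul_assoc, this M₂ hM₂ (x : H ⧸ M₂) y]; group
  have hcp : ∀ x y : H, (x⁻¹ * y⁻¹ * x * y) ^ p = 1 := by
    intro x y
    set c := x⁻¹ * y⁻¹ * x * y with hc
    have hcc : ∀ g : H, Commute c g := fun g => (Subgroup.mem_center_iff.1 (hZc (hcomm x y)) g).symm
    have h1 : x⁻¹ * y⁻¹ * x = c * y⁻¹ := by rw [hc]; group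
    have h2 : x⁻¹ * (y ^ p)⁻¹ * x = c ^ p * (y ^ p)⁻¹ := by
      rw [← inv_pow, ← (hcc y⁻¹).mul_pow, ← h1]
      simpa using (conj_pow (i := p) (a := x⁻¹) (b := y⁻¹)).symm
    have h3 := Subgroup.mem_center_iff.1 (hZc (Subgroup.inv_mem _ (hpow y))) x⁻¹
    rw [h3, inv_mul_cancel_right] at h2
    exact mul_eq_right.1 h2.symm
  let f : H →* H :=
    { toFun := fun x => x ^ p
      map_one' := one_pow p
      map_mul' := fun x y => by
        have hc : y * x = x * y * (y⁻¹ * x⁻¹ * y * x) := by group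
        rw [mul_pow_of_central (fun g => (Subgroup.mem_center_iff.1 (hZc (hcomm y x)) g).symm) hc p]
        obtain ⟨m, hm⟩ : p ∣ p.choose 2 :=
          (Fact.out : Nat.Prime p).dvd_choose_self two_ne_zero (lt_of_le_of_ne hp.out.two_le (Ne.symm hp2))
        rw [hm, pow_mul, hcp y x, one_pow, mul_one] }
  have hran : f.range ≤ Z := by rintro _ ⟨x, rfl⟩; exact hpow x
  have hker : Nat.card f.ker ≤ p := by
    by_cases hall : ∀ x : H, x ^ p = 1 → x = 1
    · rw [show f.ker = ⊥ from (Subgroup.eq_bot_iff_forall _).2 fun x hx => hall x hx, Subgroup.card_bot]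
      exact hp.out.pos
    push_neg at hall
    obtain ⟨x, hx, hx1⟩ := hall
    have hox : orderOf x = p := orderOf_eq_prime hx hx1
    calc Nat.card f.ker ≤ Nat.card (Subgroup.zpowers x) := Subgroup.card_le_of_le fun y hy => by
          have := huniq (x : G) (y : G) (by rw [Subgroup.orderOf_coe, hox])
            (by exact_mod_cast congrArg Subtype.val (show y ^ p = 1 from hy))
          obtain ⟨j, hj⟩ := Subgroup.mem_zpowers_iff.1 this
          exact Subgroup.mem_zpowers_iff.2 ⟨j, Subtype.ext (by simpa using hj)⟩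
      _ = p := by rw [Nat.card_zpowers, hox]
  have h1 : Nat.card H ≤ p * Nat.card Z := by
    rw [← f.ker.card_mul_index, Subgroup.index_ker]
    exact Nat.mul_le_mul hker (Subgroup.card_le_of_le hran)
  have h2 : p ^ 2 ∣ Z.index := by
    rw [← Subgroup.relIndex_mul_index (inf_le_left : Z ≤ M₁), hidx M₁ hM₁, pow_two]
    refine Nat.mul_dvd_mul_right ?_ p
    rw [Subgroup.inf_relIndex_left]
    rw [← Subgroup.relIndex_sup_left, sup_comm, hsup, Subgroup.relIndex_top_right, hidx M₂ hM₂]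
  have h3 : p ^ 2 * Nat.card Z ≤ Nat.card H := by
    rw [← Z.index_mul_card]
    exact Nat.mul_le_mul_right _ (Nat.le_of_dvd (Nat.pos_of_ne_zero Subgroup.index_ne_zero_of_finite) h2)
  have h4 : p ^ 2 ≤ p := Nat.le_of_mul_le_mul_right (h3.trans h1) Nat.card_pos
  nlinarith [hp.out.two_le]

end Cfsg.Agent.Lib.SylowInter.OddCyclic

namespace Cfsg.Agent.Lib.SylowInter.OddCyclic

open Cfsg.Agent.Lib.Frobenius

/-- An odd `p`-group acting fixed-point-freely on a nontrivial finite abelian group is cyclic. -/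
theorem isCyclic_of_fpf {L V : Type*} [Group L] [CommGroup V] [Finite L] [Finite V] [Nontrivial V]
    {ρ : L →* MulAut V} (hρ : IsFPF ρ) {p : ℕ} [hp : Fact p.Prime] (hp2 : p ≠ 2) (hL : IsPGroup p L) :
    IsCyclic L := by
  refine isCyclic_of_unique hp2 hL fun x y hx hy => ?_
  have hL1 : Nontrivial L := ⟨⟨x, 1, fun h => hp.out.ne_one (by rw [← hx, h, orderOf_one])⟩⟩
  haveI := hL.center_nontrivial
  obtain ⟨⟨z, hz⟩, hz1⟩ := exists_ne (1 : Subgroup.center L)
  have hz1' : z ≠ 1 := fun h => hz1 (Subtype.ext h)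
  obtain ⟨n, hn, hzo⟩ := (hL z).imp fun k hk => And.intro hk (orderOf_dvd_of_pow_eq_one hk)
  obtain ⟨j, -, hj⟩ := (Nat.dvd_prime_pow hp.out).1 hzo
  have hj0 : j ≠ 0 := fun h => hz1' (orderOf_eq_one_iff.1 (by rw [hj, h, pow_zero]))
  set z' := z ^ p ^ (j - 1) with hz'
  have hz'o : orderOf z' = p := by
    rw [hz', orderOf_pow, hj, Nat.gcd_eq_right (pow_dvd_pow p (Nat.sub_le j 1)),
      Nat.pow_div (Nat.sub_le j 1) hp.out.pos, show j - (j - 1) = 1 by omega, pow_one]
  have hzc : ∀ g : L, Commute z' g := fun g =>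
    (Commute.pow_left (Subgroup.mem_center_iff.1 hz g).symm _)
  have h1 : x ∈ Subgroup.zpowers z' :=
    hρ.mem_zpowers_of_commute hp.out hz'o (hx ▸ pow_orderOf_eq_one x) (hzc x)
  have h2 : y ∈ Subgroup.zpowers z' := hρ.mem_zpowers_of_commute hp.out hz'o hy (hzc y)
  have h3 : Subgroup.zpowers x = Subgroup.zpowers z' :=
    Subgroup.eq_of_le_of_card_ge (Subgroup.zpowers_le.2 h1)
      (le_of_eq (by rw [Nat.card_zpowers, Nat.card_zpowers, hx, hz'o]))
  exact h3 ▸ h2

end Cfsg.Agent.Lib.SylowInter.OddCyclic
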