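import Cfsg.Agent.Lib.SylowInter.CharLocal
import Cfsg.Agent.Lib.CharP.Basic

/-!
# Inheritance of `p`-constraint by `p`-locals, without hypothesis on the cores
-/

set_option autoImplicit false
open Cfsg
open Cfsg.Agent.Lib

namespace Cfsg.Agent.Lib.SylowInter.ConstrainedLocal

variable {G : Type*} [Group G] [Finite G] {p : ℕ} [hp : Fact p.Prime]

theorem le_pPrimeCore_of_two_step {D E : Subgroup G} [D.Normal] (hED : E ≤ D)
    (hn : D ≤ Subgroup.normalizer (E : Set G)) (hE : (Nat.card E).Coprime p) : E ≤ pPrimeCore p G := by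
  haveI : (E.subgroupOf D).Normal := Subgroup.normal_subgroupOf_of_le_normalizer hn
  have h1 : E.subgroupOf D ≤ pPrimeCore p ↥D :=
    Cores.le_pPrimeCore (by rwa [Nat.card_congr (Subgroup.subgroupOfEquivOfLe hED).toEquiv])
  haveI := Cores.normal_map_subtype D (pPrimeCore p ↥D)
  have h2 : (pPrimeCore p ↥D).map D.subtype ≤ pPrimeCore p G :=
    Cores.le_pPrimeCore (by
      rw [Subgroup.card_map_of_injective D.subtype_injective]
      exact Cores.pPrimeCore_coprime p)
  intro e he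
  exact h2 ⟨⟨e, hED he⟩, h1 he, rfl⟩

theorem le_pCore_of_two_step {D E : Subgroup G} [D.Normal] (hED : E ≤ D)
    (hn : D ≤ Subgroup.normalizer (E : Set G)) (hE : IsPGroup p ↥E) : E ≤ pCore p G := by
  haveI : (E.subgroupOf D).Normal := Subgroup.normal_subgroupOf_of_le_normalizer hn
  have h1 : E.subgroupOf D ≤ pCore p ↥D := Cores.le_pCore hE.comap_subtype
  intro e he
  have h2 : (⟨e, hED he⟩ : ↥D) ∈ pCore p ↥D := h1 he
  have h3 := Cores.map_subtype_pCore (G := G) p D
  have h4 : e ∈ (pCore p ↥D).map D.subtype := ⟨⟨e, hED he⟩, h2, rfl⟩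
  rw [h3] at h4
  exact h4.2

/-- If `N` contains the centralizer of a Sylow subgroup `S` of `O_{p',p}(N)` and some `p`-constrained
subgroup `L` contains `S` and its centralizer, then `N` is `p`-constrained. -/
theorem constrained_of_overgroup {N : Subgroup G}
    (h : ∀ P : Sylow p ↥(pPrimePCore p ↥N),
      let S := ((P : Subgroup ↥(pPrimePCore p ↥N)).map (pPrimePCore p ↥N).subtype).map N.subtype
      Subgroup.centralizer (S : Set G) ≤ N ∧
        ∃ L : Subgroup G, IsPConstrained p ↥L ∧ S ≤ L ∧ Subgroup.centralizer (S : Set G) ≤ L) :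
    IsPConstrained p ↥N := by
  intro P
  set S' := (P : Subgroup ↥(pPrimePCore p ↥N)).map (pPrimePCore p ↥N).subtype with hS'
  obtain ⟨hDN, L, hL, hSL, hDL⟩ := h P
  set S := S'.map N.subtype with hSdef
  set D := Subgroup.centralizer (S : Set G) with hDdef
  have hS'p : IsPGroup p ↥S' := P.isPGroup'.map _
  have hSp : IsPGroup p ↥S := hS'p.map _
  set πN := QuotientGroup.mk' (pPrimeCore p ↥N) with hπN
  set πL := QuotientGroup.mk' (pPrimeCore p ↥L) with hπL
  set D' := Subgroup.centralizer (S' : Set ↥N) with hD'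
  have hmemD : ∀ y : ↥N, y ∈ D' ↔ (y : G) ∈ D := by
    intro y
    simp only [hD', hDdef, Subgroup.mem_centralizer_iff]
    constructor
    · rintro hy _ ⟨s, hs, rfl⟩
      exact congrArg Subtype.val (hy s hs)
    · intro hy s hs
      exact Subtype.ext (hy _ ⟨s, hs, rfl⟩)
  have hQ : S'.map πN = pCore p (↥N ⧸ pPrimeCore p ↥N) := PSolvable.map_sylow_pPrimePCore P
  have hDQ : D'.map πN = Subgroup.centralizer (pCore p (↥N ⧸ pPrimeCore p ↥N) : Set (↥N ⧸ pPrimeCore p ↥N)) := by
    refine le_antisymm ?_ ?_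
    · rw [← hQ, Subgroup.coe_map]
      exact Subgroup.map_centralizer_le_centralizer_image _ _
    · rw [← hQ]
      exact PSolvable.centralizer_map_le_map_centralizer _ _ (Cores.pPrimeCore_coprime p) hS'p
  haveI hDn : (D'.map πN).Normal := by
    rw [hDQ]; exact Subgroup.normal_centralizer
  -- the core and the `O_{p',p}` of `L`, cut down to the centralizer of `S`
  set SL := S.subgroupOf L with hSL'
  set R := pPrimePCore p ↥L with hR
  have hWn : ∀ (W : Subgroup ↥L) [W.Normal] (W' : Subgroup ↥N),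
      (∀ y : ↥N, y ∈ W' ↔ (y : G) ∈ W.map L.subtype ∧ (y : G) ∈ D) →
      D'.map πN ≤ Subgroup.normalizer ((W'.map πN : Subgroup _) : Set (↥N ⧸ pPrimeCore p ↥N)) := by
    intro W hW W' hW'
    refine le_trans (Subgroup.map_mono ?_) (Subgroup.le_normalizer_map _)
    intro d hd
    have hdD := (hmemD d).1 hd
    have key : ∀ d : ↥N, (d : G) ∈ D → ∀ y ∈ W', d * y * d⁻¹ ∈ W' := by
      intro d hd y hy
      obtain ⟨⟨w, hw, hwy⟩, hyD⟩ := (hW' y).1 hy
      refine (hW' _).2 ⟨⟨⟨d, hDL hd⟩ * w * ⟨d, hDL hd⟩⁻¹, hW.conj_mem w hw _, ?_⟩, ?_⟩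
      · simp only [map_mul, map_inv, hwy, Subgroup.coe_mul, Subgroup.coe_inv]
        rfl
      · exact D.mul_mem (D.mul_mem hd hyD) (D.inv_mem hd)
    rw [Subgroup.mem_normalizer_iff]
    refine fun y => ⟨key d hdD y, fun hy => ?_⟩
    have := key d⁻¹ (D.inv_mem hdD) _ hy
    simpa [mul_assoc] using this
  -- elements of `O_{p'}(L) ∩ C(S)` lie in `O_{p'}(N)`
  have hstar : ∀ y : ↥N, (y : G) ∈ (pPrimeCore p ↥L).map L.subtype → (y : G) ∈ D → y ∈ pPrimeCore p ↥N := by
    let W' : Subgroup ↥N := ((pPrimeCore p ↥L).map L.subtype ⊓ D).subgroupOf N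
    intro y hyO hyD
    have hW'D : W' ≤ D' := fun w hw => (hmemD w).2 hw.2
    have hcop : (Nat.card (W'.map πN)).Coprime p := by
      refine Nat.Coprime.coprime_dvd_left (Subgroup.card_dvd_of_surjective _ (πN.subgroupMap_surjective W')) ?_
      rw [Nat.card_congr (Subgroup.subgroupOfEquivOfLe (inf_le_right.trans hDN)).toEquiv]
      refine Nat.Coprime.coprime_dvd_left (Subgroup.card_dvd_of_le inf_le_left) ?_
      rw [Subgroup.card_map_of_injective L.subtype_injective]
      exact Cores.pPrimeCore_coprime p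
    have h1 := le_pPrimeCore_of_two_step (Subgroup.map_mono (f := πN) hW'D)
      (hWn (pPrimeCore p ↥L) W' (fun _ => Iff.rfl)) hcop
    rw [Cores.pPrimeCore_quotient_pPrimeCore, le_bot_iff, Subgroup.map_eq_bot_iff, QuotientGroup.ker_mk'] at h1
    exact h1 (show (y : G) ∈ (pPrimeCore p ↥L).map L.subtype ⊓ D from ⟨hyO, hyD⟩)
  have hRp : IsPGroup p ↥(pCore p (↥L ⧸ pPrimeCore p ↥L)) := Cores.pCore_isPGroup p
  have hR' : ∀ r ∈ R, (orderOf r).Coprime p → r ∈ pPrimeCore p ↥L := by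
    intro r hr hcop
    rw [← QuotientGroup.eq_one_iff (N := pPrimeCore p ↥L) r]
    obtain ⟨k, hk⟩ := hRp ⟨_, hr⟩
    exact orderOf_eq_one_iff.1 (Nat.eq_one_of_dvd_coprimes (hcop.pow_right k)
      (orderOf_map_dvd πL r) (orderOf_dvd_of_pow_eq_one (congrArg Subtype.val hk)))
  -- elements of `O_{p',p}(L) ∩ C(S)` map into `O_p` of the quotient of `N`
  have hRN : ∀ y : ↥N, (y : G) ∈ R.map L.subtype → (y : G) ∈ D → πN y ∈ pCore p (↥N ⧸ pPrimeCore p ↥N) := by
    let W' : Subgroup ↥N := (R.map L.subtype ⊓ D).subgroupOf N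
    intro y hyR hyD
    have hW'D : W' ≤ D' := fun w hw => (hmemD w).2 hw.2
    have hpg : IsPGroup p ↥(W'.map πN) := by
      refine CharP.isPGroup_of_coprime_eq_one ?_
      rintro _ ⟨w, ⟨⟨r, hr, hrw⟩, hwD⟩, rfl⟩ hcop
      obtain ⟨a, ha⟩ := CharP.exists_pow_coprime (p := p) w
      have hr' : r ^ p ^ a ∈ pPrimeCore p ↥L := hR' _ (R.pow_mem hr _) (by
        rw [← Subgroup.orderOf_coe, Subgroup.coe_pow]
        rw [← Subgroup.orderOf_coe, Subgroup.coe_pow] at ha
        rwa [show ((r : ↥L) : G) = (w : G) from hrw])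
      have h1 : w ^ p ^ a ∈ pPrimeCore p ↥N := hstar _
        ⟨r ^ p ^ a, hr', by rw [map_pow, hrw, Subgroup.coe_pow]; rfl⟩
        (by rw [Subgroup.coe_pow]; exact D.pow_mem hwD _)
      have h2 : πN w ^ p ^ a = 1 := by
        rw [← map_pow]; exact (QuotientGroup.eq_one_iff _).2 h1
      exact orderOf_eq_one_iff.1 (Nat.eq_one_of_dvd_coprimes (hcop.pow_right a) dvd_rfl
        (orderOf_dvd_of_pow_eq_one h2))
    exact le_pCore_of_two_step (Subgroup.map_mono (f := πN) hW'D) (hWn R W' (fun _ => Iff.rfl)) hpg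
      ⟨y, show (y : G) ∈ R.map L.subtype ⊓ D from ⟨hyR, hyD⟩, rfl⟩
  -- elements of `C_N(S)` of order prime to `p` lie in `O_{p'}(N)`
  have hmain : ∀ x ∈ D', (orderOf x).Coprime p → x ∈ pPrimeCore p ↥N := by
    intro x hx hcop
    have hxD := (hmemD x).1 hx
    set xL : ↥L := ⟨x, hDL hxD⟩ with hxL
    have hxLc : (orderOf xL).Coprime p := by
      rw [← Subgroup.orderOf_coe]; rwa [← Subgroup.orderOf_coe] at hcop
    have hxLS : xL ∈ Subgroup.centralizer (SL : Set ↥L) :=
      Subgroup.mem_centralizer_iff.2 fun s hs => Subtype.ext (Subgroup.mem_centralizer_iff.1 hxD _ hs)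
    have hxc : πL xL ∈ Subgroup.centralizer (pCore p (↥L ⧸ pPrimeCore p ↥L) : Set _) := by
      refine Balance.mem_centralizer_pGroup hRp
        ((IsPGroup.of_equiv hSp (Subgroup.subgroupOfEquivOfLe hSL).symm).map πL)
        Subgroup.le_normalizer_of_normal
        (Subgroup.le_normalizer_of_normal (H := pCore p (↥L ⧸ pPrimeCore p ↥L)) (K := ⊤) trivial)
        (hxLc.coprime_dvd_left (orderOf_map_dvd πL xL)) ?_ ?_
      · rw [Subgroup.coe_map]
        exact Subgroup.map_centralizer_le_centralizer_image _ _ ⟨xL, hxLS, rfl⟩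
      · rintro rbar ⟨hrR, hrS⟩
        obtain ⟨r, hr, rfl⟩ := PSolvable.centralizer_map_le_map_centralizer _ SL
          (Cores.pPrimeCore_coprime p) (IsPGroup.of_equiv hSp (Subgroup.subgroupOfEquivOfLe hSL).symm) hrS
        have hrD : (r : G) ∈ D := Subgroup.mem_centralizer_iff.2 fun s hs =>
          congrArg Subtype.val (Subgroup.mem_centralizer_iff.1 hr ⟨s, hSL hs⟩ hs)
        set rN : ↥N := ⟨r, hDN hrD⟩ with hrN
        have h1 := hRN rN ⟨r, hrR, rfl⟩ hrD
        have hxQ : πN x ∈ Subgroup.centralizer (pCore p (↥N ⧸ pPrimeCore p ↥N) : Set _) :=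
          hDQ ▸ ⟨x, hx, rfl⟩
        have h2 := Subgroup.mem_centralizer_iff.1 hxQ _ h1
        have h3 : x * rN * x⁻¹ * rN⁻¹ ∈ pPrimeCore p ↥N := by
          rw [← QuotientGroup.eq_one_iff]
          show πN (x * rN * x⁻¹ * rN⁻¹) = 1
          simp only [map_mul, map_inv]
          rw [← h2, mul_inv_cancel_right, mul_inv_cancel]
        set c : ↥L := xL * r * xL⁻¹ * r⁻¹ with hc
        have hcR : c ∈ R := R.mul_mem (Subgroup.Normal.conj_mem inferInstance r hrR xL) (R.inv_mem hrR)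
        have hccop : (orderOf c).Coprime p := by
          rw [← Subgroup.orderOf_coe]
          have hd : orderOf (x * rN * x⁻¹ * rN⁻¹) ∣ _ := Subgroup.orderOf_dvd_natCard _ h3
          rw [← Subgroup.orderOf_coe] at hd
          exact (Cores.pPrimeCore_coprime p).coprime_dvd_left hd
        have h4 : πL c = 1 := (QuotientGroup.eq_one_iff _).2 (hR' c hcR hccop)
        simp only [hc, map_mul, map_inv] at h4
        exact Subgroup.mem_centralizer_singleton_iff.2
          (mul_inv_eq_iff_eq_mul.1 (mul_inv_eq_one.1 h4)).symm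
    have h5 := PSolvable.isPConstrained_iff.1 hL hxc
    obtain ⟨k, hk⟩ := hRp ⟨_, h5⟩
    have h6 : πL xL = 1 := orderOf_eq_one_iff.1 (Nat.eq_one_of_dvd_coprimes
      ((hxLc.coprime_dvd_left (orderOf_map_dvd πL xL)).pow_right k) dvd_rfl
      (orderOf_dvd_of_pow_eq_one (congrArg Subtype.val hk)))
    exact hstar x ⟨xL, (QuotientGroup.eq_one_iff _).1 h6, rfl⟩ hxD
  have hDp : IsPGroup p ↥(D'.map πN) := by
    refine CharP.isPGroup_of_coprime_eq_one ?_
    rintro _ ⟨w, hw, rfl⟩ hcop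
    obtain ⟨a, ha⟩ := CharP.exists_pow_coprime (p := p) w
    have h1 := hmain _ (D'.pow_mem hw _) ha
    have h2 : πN w ^ p ^ a = 1 := by
      rw [← map_pow]; exact (QuotientGroup.eq_one_iff _).2 h1
    exact orderOf_eq_one_iff.1 (Nat.eq_one_of_dvd_coprimes (hcop.pow_right a) dvd_rfl
      (orderOf_dvd_of_pow_eq_one h2))
  intro w hw
  exact Cores.le_pCore hDp ⟨w, hw, rfl⟩

end Cfsg.Agent.Lib.SylowInter.ConstrainedLocal
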