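import Cfsg.Agent.Lib.SylowInter.CyclicTwoCore
import Cfsg.Agent.Lib.ZStar.UniqueCase

/-!
# A cyclic normal 2-subgroup is central

In a group with trivial odd core, at least two Sylow 2-subgroups and cyclic intersections of
distinct Sylow 2-subgroups, every cyclic normal 2-subgroup is central.
-/

set_option autoImplicit false

open scoped Pointwise
open Cfsg.Agent.Lib.Involutions.Basic

namespace Cfsg.Agent.Lib.SylowInter.CyclicTwoCentral

open CyclicTwoTools CyclicTwoCore

universe u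

variable {G : Type u} [Group G] [Finite G]

/-- An element of prime order `q` normalising a 2-subgroup `S` and fixing a coset of `S ⊓ C`
fixes a point in it. -/
theorem exists_fixed {S : Subgroup G} (hS : IsPGroup 2 S) {C : Subgroup G} [C.Normal] {d x : G}
    {q : ℕ} [hq : Fact q.Prime] (hq2 : q ≠ 2) (hdq : d ^ q = 1) (hdC : d ∈ C)
    (hdS : ∀ y ∈ S, d * y * d⁻¹ ∈ S) (hx : x ∈ S) :
    ∃ y ∈ S, y * x⁻¹ ∈ C ∧ d * y = y * d := by
  classical
  let X := {y : G // y ∈ S ∧ y * x⁻¹ ∈ C}
  have := Fintype.ofFinite X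
  have key : ∀ e ∈ Subgroup.zpowers d, ∀ y : X, e * y.1 * e⁻¹ * x⁻¹ ∈ C := by
    intro e he y
    have hec : e ∈ C := Subgroup.zpowers_le.2 hdC he
    have heq : e * y.1 * e⁻¹ * x⁻¹ = e * (y.1 * e⁻¹ * y.1⁻¹) * (y.1 * x⁻¹) := by group
    rw [heq]
    exact C.mul_mem (C.mul_mem hec (Subgroup.Normal.conj_mem inferInstance _ (C.inv_mem hec) _))
      y.2.2
  let f : X → X := fun y =>
    ⟨d * y.1 * d⁻¹, hdS _ y.2.1, key d (Subgroup.mem_zpowers d) y⟩
  have hinj : Function.Injective f := fun y z h => Subtype.ext (by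
    have h1 := congrArg Subtype.val h
    simpa [f] using h1)
  let σ : Equiv.Perm X := Equiv.ofBijective f (Finite.injective_iff_bijective.1 hinj)
  have hσ : ∀ (n : ℕ) (y : X), ((σ ^ n) y).1 = d ^ n * y.1 * (d ^ n)⁻¹ := by
    intro n
    induction n with
    | zero => intro y; simp
    | succ n ih =>
      intro y
      rw [pow_succ', Equiv.Perm.mul_apply, pow_succ']
      show d * ((σ ^ n) y).1 * d⁻¹ = _
      rw [ih y]
      group
  have hσ1 : σ ^ q ^ 1 = 1 := Equiv.ext fun y => Subtype.ext (by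
    rw [hσ, pow_one, hdq, inv_one, one_mul, mul_one, Equiv.Perm.one_apply])
  have hcard : Fintype.card X = Nat.card ↥(S ⊓ C) := by
    rw [← Nat.card_eq_fintype_card]
    refine Nat.card_congr ⟨fun y => ⟨y.1 * x⁻¹, S.mul_mem y.2.1 (S.inv_mem hx), y.2.2⟩,
      fun c => ⟨c.1 * x, S.mul_mem c.2.1 hx, by rw [mul_inv_cancel_right]; exact c.2.2⟩,
      fun y => Subtype.ext (inv_mul_cancel_right _ _),
      fun c => Subtype.ext (mul_inv_cancel_right _ _)⟩
  have hnd : ¬ q ∣ Fintype.card X := by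
    obtain ⟨n, hn⟩ := IsPGroup.iff_card.1 (hS.to_le (inf_le_left (b := C)))
    rw [hcard, hn]
    exact fun h => hq2 ((Nat.prime_dvd_prime_iff_eq hq.out Nat.prime_two).1 (hq.out.dvd_of_dvd_pow h))
  obtain ⟨y, hy⟩ := Equiv.Perm.exists_fixed_point_of_prime hnd hσ1
  exact ⟨y.1, y.2.1, y.2.2, mul_inv_eq_iff_eq_mul.1 (congrArg Subtype.val hy)⟩

/-- The quotient by `R` has trivial odd core. -/
theorem oddFree_of_ker (s : Setup G) {Q : Type u} [Group Q] (π : G →* Q)
    (hf : Function.Surjective π) (hker : π.ker = s.R) (N : Subgroup Q) (hN : N.Normal)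
    (hodd : Odd (Nat.card N)) : N = ⊥ := by
  have := s.normal
  have hMn : (N.comap π).Normal := hN.comap π
  set M := N.comap π with hM
  have hRM : s.R ≤ M := fun r hr => by
    rw [hM, Subgroup.mem_comap, MonoidHom.mem_ker.1 (hker.symm ▸ hr : r ∈ π.ker)]
    exact N.one_mem
  have hidx : (s.R.subgroupOf M).index = Nat.card N := by
    change s.R.relIndex M = _
    rw [← hker, Subgroup.relIndex_ker, hM, Subgroup.map_comap_eq_self_of_surjective hf]
  obtain ⟨n, hn⟩ := IsPGroup.iff_card.1 s.two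
  have hcR : Nat.card (s.R.subgroupOf M) = 2 ^ n := by
    rw [← hn]
    exact Nat.card_congr (Subgroup.subgroupOfEquivOfLe hRM).toEquiv
  obtain ⟨H, hH⟩ := Subgroup.exists_right_complement'_of_coprime (N := s.R.subgroupOf M) (by
    rw [hidx, hcR]
    exact Nat.Coprime.pow_left n (Nat.coprime_two_left.2 hodd))
  have hHodd : Odd (Nat.card H) := by
    rw [← hH.symm.index_eq_card, hidx]; exact hodd
  have hHC : ∀ h ∈ H, (h : G) ∈ s.C := fun h hh => by
    refine s.mem_C_of_odd hHodd ?_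
    have h1 := congrArg (fun y : H => ((y : M) : G)) (pow_card_eq_one' (G := H) (x := ⟨h, hh⟩))
    simpa only [SubmonoidClass.coe_pow, OneMemClass.coe_one] using h1
  have hHn : H.Normal := by
    rw [← Subgroup.normalizer_eq_top_iff, eq_top_iff, ← hH.sup_eq_top]
    refine sup_le (fun r hr => ?_) Subgroup.le_normalizer
    have hfix : ∀ h ∈ H, r * h = h * r := fun h hh => Subtype.ext (s.comm (hHC h hh) hr)
    refine Subgroup.mem_normalizer_iff.2 fun h => ⟨fun hh => ?_, fun hh => ?_⟩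
    · rw [hfix h hh, mul_inv_cancel_right]
      exact hh
    · have h1 := hfix _ hh
      have h2 : h = r⁻¹ * (r * h * r⁻¹) * r := by group
      rw [h2, mul_assoc, ← h1, ← mul_assoc r⁻¹, inv_mul_cancel, one_mul]
      exact hh
  have hle : H ≤ Cfsg.pPrimeCore 2 M :=
    Cores.le_pPrimeCore (p := 2) (Nat.coprime_two_right.2 hHodd)
  have hcore : (Cfsg.pPrimeCore 2 M).map M.subtype = ⊥ := by
    refine s.oddFree _ (Cores.normal_map_subtype M _) ?_
    rw [Subgroup.card_map_of_injective M.subtype_injective, ← Nat.coprime_two_right]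
    exact Cores.pPrimeCore_coprime 2
  rw [Subgroup.map_eq_bot_iff_of_injective _ M.subtype_injective] at hcore
  have hHbot : H = ⊥ := le_bot_iff.1 (hcore ▸ hle)
  refine Subgroup.eq_bot_of_card_eq _ ?_
  rw [← hidx, hH.symm.index_eq_card, hHbot, Subgroup.card_bot]

/-- All good involutions of `S` in one coset of `R` gives a contradiction. -/
theorem false_of_one_coset (s : Setup G) {a : G} (ha : s.Good a) {S : Sylow 2 G}
    (haS : a ∈ (S : Subgroup G)) (hone : ∀ b, s.Good b → b ∈ (S : Subgroup G) → a * b ∈ s.R) :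
    False := by
  have := s.normal
  have ha1 := invol_mul_self ha.1
  set π := QuotientGroup.mk' s.R with hπ
  have hker : π.ker = s.R := QuotientGroup.ker_mk' s.R
  have ht : orderOf (π a) = 2 := invol_iff.2 ⟨by rw [← map_mul, ha1, map_one],
    fun h => ha.2.2 (hker ▸ MonoidHom.mem_ker.2 h)⟩
  have hiso : ZStar.Reduction.Iso (π a) := by
    refine ⟨ht, fun x => ?_⟩
    obtain ⟨g, rfl⟩ := QuotientGroup.mk'_surjective s.R x
    have he : π a * π g * (π a)⁻¹ * (π g)⁻¹ = π (a * (g * a * g⁻¹)) := by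
      rw [← map_inv, ← map_inv, ← map_mul, ← map_mul, ← map_mul]
      refine congrArg π ?_
      rw [invol_inv ha.1, mul_assoc a, mul_assoc a]
    rw [he]
    have hu := s.good_conj ha g
    have huT := conj_mem_smul haS g
    by_cases hST : S = g • S
    · have hm := hone _ hu (hST.symm ▸ huT)
      rw [MonoidHom.mem_ker.1 (hker.symm ▸ hm : a * (g * a * g⁻¹) ∈ π.ker), orderOf_one]
      exact odd_one
    · obtain ⟨o, ho, hm⟩ := s.odd_pow_mem_R ha hu haS huT hST
      refine ho.of_dvd_nat (orderOf_dvd_of_pow_eq_one ?_)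
      rw [← map_pow]
      exact MonoidHom.mem_ker.1 (hker.symm ▸ hm)
  have hO : ∀ N : Subgroup (G ⧸ s.R), N.Normal → Odd (Nat.card N) → N = ⊥ := fun N hN hodd =>
    oddFree_of_ker s π (QuotientGroup.mk'_surjective s.R) hker N hN hodd
  have hcen := ZStar.UniqueCase.mem_center_of_iso hiso hO
  have hzn : (Subgroup.zpowers (π a)).Normal := by
    refine ⟨fun x hx g => ?_⟩
    have hxc : x ∈ Subgroup.center (G ⧸ s.R) := Subgroup.zpowers_le.2 hcen hx
    rwa [Subgroup.mem_center_iff.1 hxc g, mul_inv_cancel_right]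
  have hMn : ((Subgroup.zpowers (π a)).comap π).Normal := hzn.comap π
  have hM2 : IsPGroup 2 ((Subgroup.zpowers (π a)).comap π) :=
    (isPGroup_zpowers (k := 1) (by rw [pow_one, ← ht, pow_orderOf_eq_one])).comap_of_ker_isPGroup π
      (by rw [hker]; exact s.two)
  have haM : ∀ T : Sylow 2 G, a ∈ (T : Subgroup G) := fun T =>
    ((Cores.le_pCore hM2).trans (Cores.pCore_le_sylow T))
      (Subgroup.mem_comap.2 (Subgroup.mem_zpowers _))
  obtain ⟨S', T', hne⟩ := s.moved
  exact hne (s.good_unique ha (haM S') (haM T'))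

/-- A non-central `R` moves some element of every Sylow 2-subgroup. -/
theorem exists_mem_not_C (s : Setup G) (S : Sylow 2 G) : ∃ x ∈ (S : Subgroup G), x ∉ s.C := by
  by_contra h
  push Not at h
  refine s.ncentral fun r hr => Subgroup.mem_center_iff.2 fun g => ?_
  obtain ⟨e, o, ho, -, h2, ho2⟩ := exists_order_split g
  obtain ⟨T, hT⟩ := exists_sylow_mem h2
  obtain ⟨c, rfl⟩ := MulAction.exists_smul_eq G S T
  have h2C : g ^ o ∈ s.C := by
    rw [Sylow.coe_subgroup_smul, Subgroup.mem_pointwise_smul_iff_inv_smul_mem] at hT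
    have hm := s.C_normal.conj_mem _ (h _ hT) c
    rw [MulAut.smul_def, MulAut.conj_inv_apply] at hm
    have he : c * (c⁻¹ * g ^ o * c) * c⁻¹ = g ^ o := by group
    rwa [he] at hm
  exact (s.comm (mem_of_pow_coprime (Nat.Coprime.pow_right e (Nat.coprime_two_right.2 ho)) h2C
    (s.mem_C_of_odd ho ho2)) hr).symm

/-- No element of odd prime order is inverted by a swap and normalises both Sylow subgroups. -/
theorem false_of_inverted (s : Setup G) {S T : Sylow 2 G} (hne : S ≠ T) {m d : G}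
    (hm : s.Good m) (hST : m • S = T) (hTS : m • T = S) {q : ℕ} [hq : Fact q.Prime] (hq2 : q ≠ 2)
    (hdq : orderOf d = q) (hdS : d • S = S) (hdT : d • T = T) (hinv : m * d * m = d⁻¹) : False := by
  have := s.C_normal
  have hm1 := invol_mul_self hm.1
  have hodd : Odd q := hq.out.odd_of_ne_two hq2
  have hd1 : d ^ q = 1 := hdq ▸ pow_orderOf_eq_one d
  have hdC : d ∈ s.C := s.mem_C_of_odd hodd hd1
  have hnS : ∀ y ∈ (S : Subgroup G), d * y * d⁻¹ ∈ (S : Subgroup G) := fun y hy => by
    have := conj_mem_smul hy d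
    rwa [hdS] at this
  obtain ⟨x, hxS, hxC⟩ := exists_mem_not_C s S
  obtain ⟨y, hyS, hyx, hdy⟩ := exists_fixed S.2 hq2 hd1 hdC hnS hxS
  have hyC : y ∉ s.C := fun hy => hxC (by
    have h1 := s.C.mul_mem (s.C.inv_mem hyx) hy
    rwa [mul_inv_rev, inv_inv, inv_mul_cancel_right] at h1)
  set y' := m * y * m⁻¹ with hy'
  have hy'T : y' ∈ (T : Subgroup G) := by rw [← hST]; exact conj_mem_smul hyS m
  have hy'C : y' ∉ s.C := fun h => hyC (by
    have h1 := s.C_normal.conj_mem _ h m⁻¹
    rw [hy'] at h1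
    simpa [mul_assoc] using h1)
  have hmi : m⁻¹ = m := invol_inv hm.1
  have hdy' : d * y' = y' * d := by
    have hc : Commute (MulAut.conj m d) (MulAut.conj m y) :=
      (show Commute d y from hdy).map (MulAut.conj m).toMonoidHom
    rw [MulAut.conj_apply, MulAut.conj_apply, ← hy', hmi, hinv] at hc
    have hc' := hc.inv_left
    rw [inv_inv] at hc'
    exact hc'.eq
  let K : Subgroup G := Subgroup.centralizer ({d} : Set G)
  have memK : ∀ z : G, d * z = z * d → z ∈ K := fun z hz =>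
    Subgroup.mem_centralizer_iff.2 fun w hw => by rw [Set.mem_singleton_iff.1 hw]; exact hz
  obtain ⟨k, hk⟩ := exists_pow_of_mem S.2 hyS
  obtain ⟨k', hk'⟩ := exists_pow_of_mem T.2 hy'T
  obtain ⟨P, hP⟩ := exists_sylow_mem (x := (⟨y, memK y hdy⟩ : K)) (Subtype.ext hk : _ = (1 : K))
  obtain ⟨P', hP'⟩ := exists_sylow_mem (x := (⟨y', memK y' hdy'⟩ : K))
    (Subtype.ext hk' : _ = (1 : K))
  obtain ⟨c, hc⟩ := MulAction.exists_smul_eq K P P'
  obtain ⟨T', hT'⟩ := (P'.2.map K.subtype).exists_le_sylow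
  have hT'T : T' = T := s.outside (hT' (Subgroup.mem_map_of_mem K.subtype hP')) hy'T hy'C
  have hcy : (c : G) * y * (c : G)⁻¹ ∈ (T : Subgroup G) := by
    rw [← hT'T]
    refine hT' ?_
    have h1 := conj_mem_smul hP c
    rw [hc] at h1
    exact Subgroup.mem_map_of_mem K.subtype h1
  have hcyC : (c : G) * y * (c : G)⁻¹ ∉ s.C := fun h => hyC (by
    have h1 := s.C_normal.conj_mem _ h (c : G)⁻¹
    simpa [mul_assoc] using h1)
  have hcS : (c : G) • S = T := s.outside (conj_mem_smul hyS (c : G)) hcy hcyC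
  set h := m * (c : G) with hh
  have hhS : h • S = S := by rw [hh, mul_smul, hcS, hTS]
  have hhd : h * d * h⁻¹ = d⁻¹ := by
    have hcd : d * (c : G) = c * d := Subgroup.mem_centralizer_iff.1 c.2 d rfl
    rw [hh, mul_inv_rev, ← hinv]
    calc m * c * d * ((c : G)⁻¹ * m⁻¹) = m * ((c : G) * d) * (c : G)⁻¹ * m⁻¹ := by group
      _ = m * d * m := by rw [← hcd, hmi]; group
  obtain ⟨e, o, ⟨j, rfl⟩, -, hoe, -⟩ := exists_order_split h
  have hjS : h ^ (2 * j + 1) ∈ (S : Subgroup G) :=
    mem_of_smul_eq hoe ((MulAction.stabilizer G S).pow_mem hhS _)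
  have hconj : h ^ (2 * j + 1) * d * (h ^ (2 * j + 1))⁻¹ = d⁻¹ := by
    have h2 : Commute (h ^ 2) d := by
      refine mul_inv_eq_iff_eq_mul.1 ?_
      calc h ^ 2 * d * (h ^ 2)⁻¹ = h * (h * d * h⁻¹) * h⁻¹ := by
            simp only [pow_two, mul_inv_rev, mul_assoc]
        _ = d := by
          rw [hhd]
          have h3 := congrArg (·⁻¹) hhd
          simp only [mul_inv_rev, inv_inv, ← mul_assoc] at h3
          exact h3
    rw [pow_succ', pow_mul, mul_assoc h, (h2.pow_left j).eq, ← mul_assoc, mul_inv_rev]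
    rw [← mul_assoc, mul_inv_cancel_right, hhd]
  have hd2 : (d⁻¹) ^ 2 ∈ (S : Subgroup G) := by
    have h1 := (S : Subgroup G).mul_mem hjS (hnS _ ((S : Subgroup G).inv_mem hjS))
    rwa [← mul_assoc, ← mul_assoc, hconj, ← pow_two] at h1
  obtain ⟨i, hi⟩ := exists_pow_of_mem S.2 hd2
  rw [← pow_mul, ← pow_succ', inv_pow, inv_eq_one] at hi
  exact hq.out.one_lt.ne' (hdq ▸ (eq_one_of_odd_of_two hodd hd1 hi).symm ▸ orderOf_one)

/-- A cyclic normal 2-subgroup is central. -/
theorem false_of_setup (s : Setup G) : False := by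
  obtain ⟨a, ha⟩ := s.exists_good
  obtain ⟨S, haS⟩ := exists_sylow_mem (x := a) (k := 1) (by rw [pow_one, ← ha.1, pow_orderOf_eq_one])
  by_cases hone : ∀ b, s.Good b → b ∈ (S : Subgroup G) → a * b ∈ s.R
  · exact false_of_one_coset s ha haS hone
  push Not at hone
  obtain ⟨b, hb, hbS, hab⟩ := hone
  have hT : ∃ T : Sylow 2 G, S ≠ T := by
    by_contra h
    push Not at h
    obtain ⟨S', T', hne⟩ := s.moved
    exact hne ((h S').symm.trans (h T'))
  obtain ⟨T, hne⟩ := hT
  obtain ⟨g, rfl⟩ := MulAction.exists_smul_eq G S T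
  have hu := s.good_conj ha g
  have huT := conj_mem_smul haS g
  set u := g * a * g⁻¹ with hu'
  obtain ⟨m, hm, hmS, hmT, hmR⟩ := s.exists_swap ha hu haS huT hne
  obtain ⟨m', hm', hm'S, hm'T, hm'R⟩ := s.exists_swap hb hu hbS huT hne
  set T := g • S with hTdef
  have hm1 := invol_mul_self hm.1
  have hm'1 := invol_mul_self hm'.1
  set w := m * m' with hw
  have hwS : w • S = S := by rw [hw, mul_smul, hm'S, hmT]
  have hwT : w • T = T := by rw [hw, mul_smul, hm'T, hmS]
  have hinv : m * w * m = w⁻¹ := invert_mul hm1 hm'1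
  obtain ⟨e, o, ho, hord, h2, hodd⟩ := exists_order_split w
  have h2R : w ^ o ∈ s.R := s.inverted_mem_R hm h2
    (by rw [← zpow_natCast, invert_zpow hm1 hinv, zpow_neg]) hne
    (mem_of_smul_eq h2 ((MulAction.stabilizer G S).pow_mem hwS o))
    (mem_of_smul_eq h2 ((MulAction.stabilizer G T).pow_mem hwT o))
  by_cases ho1 : o = 1
  · subst ho1
    rw [pow_one] at h2R
    have hn := s.normal
    -- `m'` is `m * w` with `w ∈ R`, so conjugation by both agrees on `a` and `b`
    have hm'w : m' = m * w := by rw [hw, ← mul_assoc, hm1, one_mul]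
    have hcb : w * b = b * w := s.comm hb.2.1 h2R
    have heq : m' * b * m' = m * b * m := by
      have h1 : m' = w⁻¹ * m := by rw [hw, mul_inv_rev, invol_inv hm.1, invol_inv hm'.1, mul_assoc, hm1, mul_one]
      calc m' * b * m' = m * w * b * (w⁻¹ * m) := by rw [← hm'w, ← h1]
        _ = m * b * m := by rw [mul_assoc m w b, hcb]; group
    rw [heq] at hm'R
    have h3 := s.R.mul_mem hmR (s.R.inv_mem hm'R)
    have h4 : m * a * m * u * (m * b * m * u)⁻¹ = m * (a * b) * m⁻¹ := by
      have hi : (m * b * m)⁻¹ = m * b * m := by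
        rw [mul_inv_rev, mul_inv_rev, invol_inv hm.1, invol_inv hb.1, mul_assoc]
      calc m * a * m * u * (m * b * m * u)⁻¹ = m * a * m * (m * b * m)⁻¹ := by group
        _ = m * (a * b) * m⁻¹ := by
          rw [hi, invol_inv hm.1]
          simp only [mul_assoc]
          rw [← mul_assoc m m, hm1, one_mul]
    rw [h4] at h3
    have h5 := hn.conj_mem _ h3 m⁻¹
    exact hab (by simpa [mul_assoc] using h5)
  · obtain ⟨q, hq, hqo⟩ := Nat.exists_prime_and_dvd ho1
    have : Fact q.Prime := ⟨hq⟩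
    have hq2 : q ≠ 2 := fun h => by
      subst h
      exact (Nat.not_even_iff_odd.2 ho) (even_iff_two_dvd.2 hqo)
    have hdvd : q ∣ orderOf w := hord ▸ dvd_mul_of_dvd_right hqo _
    exact false_of_inverted s hne hm hmS hmT (q := q) hq2
      (d := w ^ (orderOf w / q)) (orderOf_pow_orderOf_div (orderOf_pos w).ne' hdvd)
      ((MulAction.stabilizer G S).pow_mem hwS _) ((MulAction.stabilizer G T).pow_mem hwT _)
      (by rw [← zpow_natCast, invert_zpow hm1 hinv, zpow_neg])

/-- A cyclic normal 2-subgroup is central. -/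
theorem le_center {R : Subgroup G} [R.Normal] [IsCyclic R] (hR : IsPGroup 2 R)
    (hC : ∀ S T : Sylow 2 G, S ≠ T → IsCyclic ↥((S : Subgroup G) ⊓ (T : Subgroup G)))
    (hO : ∀ N : Subgroup G, N.Normal → Odd (Nat.card N) → N = ⊥)
    (hmov : ∃ S T : Sylow 2 G, S ≠ T) : R ≤ Subgroup.center G := by
  by_contra h
  exact false_of_setup ⟨R, inferInstance, inferInstance, hR, hC, hO, hmov, h⟩

end Cfsg.Agent.Lib.SylowInter.CyclicTwoCentral
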