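import Cfsg.Agent.Lib.SylowInter.CyclicTwoTools
import Cfsg.Agent.Lib.SylowInter.Basic
import Cfsg.Agent.Lib.PGroups.UniqueInvolution

/-!
# Cyclic intersections of Sylow 2-subgroups and cyclic normal 2-subgroups

`Setup G` records a cyclic normal 2-subgroup which is assumed not to be central. Here: the good
involutions (centralising `R`, outside `R`), their unique Sylow subgroups, and swapping involutions.
-/

set_option autoImplicit false

open scoped Pointwise
open Cfsg.Agent.Lib.Involutions.Basic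

namespace Cfsg.Agent.Lib.SylowInter.CyclicTwoCore

open CyclicTwoTools

universe u

/-- A group with cyclic Sylow 2-intersections, trivial odd core and a non-central cyclic normal
2-subgroup. -/
structure Setup (G : Type u) [Group G] where
  R : Subgroup G
  normal : R.Normal
  cyc : IsCyclic R
  two : IsPGroup 2 R
  inter : ∀ S T : Sylow 2 G, S ≠ T → IsCyclic ↥((S : Subgroup G) ⊓ (T : Subgroup G))
  oddFree : ∀ N : Subgroup G, N.Normal → Odd (Nat.card N) → N = ⊥
  moved : ∃ S T : Sylow 2 G, S ≠ T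
  ncentral : ¬ R ≤ Subgroup.center G

namespace Setup

variable {G : Type u} [Group G] (s : Setup G)

/-- The centraliser of `R`. -/
abbrev C : Subgroup G := Subgroup.centralizer (s.R : Set G)

/-- An involution centralising `R` and outside it. -/
def Good (a : G) : Prop := orderOf a = 2 ∧ a ∈ s.C ∧ a ∉ s.R

theorem C_normal : s.C.Normal := by
  have := s.normal
  infer_instance

theorem comm {c r : G} (hc : c ∈ s.C) (hr : r ∈ s.R) : r * c = c * r :=
  Subgroup.mem_centralizer_iff.1 hc r hr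

theorem R_le_C : s.R ≤ s.C := fun x hx => by
  have := s.cyc
  exact Subgroup.mem_centralizer_iff.2 fun r hr => (commute_of_mem hr hx).eq

theorem good_conj {a : G} (h : s.Good a) (g : G) : s.Good (g * a * g⁻¹) := by
  refine ⟨(orderOf_conj_eq g a).trans h.1, s.C_normal.conj_mem a h.2.1 g, fun hm => h.2.2 ?_⟩
  simpa [mul_assoc] using s.normal.conj_mem _ hm g⁻¹

variable [Finite G]

theorem R_le (S : Sylow 2 G) : s.R ≤ (S : Subgroup G) := by
  have := s.normal
  exact (Cores.le_pCore s.two).trans (Cores.pCore_le_sylow S)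

/-- `R` contains an element of order at least four. -/
theorem exists_four : ∃ r ∈ s.R, r * r ≠ 1 := by
  by_contra h
  push Not at h
  refine s.ncentral fun r hr => Subgroup.mem_center_iff.2 fun g => ?_
  by_cases h1 : r = 1
  · rw [h1, mul_one, one_mul]
  have := s.cyc
  have ho : orderOf r = 2 := invol_iff.2 ⟨h r hr, h1⟩
  exact mul_inv_eq_iff_eq_mul.1
    (invol_eq (K := s.R) (s.normal.conj_mem r hr g) hr ((orderOf_conj_eq g r).trans ho) ho)

/-- The involution of `R`. -/
theorem exists_z : ∃ z ∈ s.R, orderOf z = 2 := by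
  obtain ⟨r, hr, hr2⟩ := s.exists_four
  exact PGroups.exists_orderOf_eq_prime_of_ne_bot s.two fun h => hr2 (by
    rw [h, Subgroup.mem_bot] at hr
    rw [hr, one_mul])

theorem mem_C_of_odd {d : G} {o : ℕ} (ho : Odd o) (hd : d ^ o = 1) : d ∈ s.C := by
  have := s.normal
  have := s.cyc
  obtain ⟨k, hk⟩ := Basic.isPGroup_mulAut_of_cyclic s.two (MulAut.conjNormal (H := s.R) d)
  have h1 : MulAut.conjNormal (H := s.R) d = 1 :=
    eq_one_of_odd_of_two ho (by rw [← map_pow, hd, map_one]) hk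
  show d ∈ Subgroup.centralizer (s.R : Set G)
  rw [← Basic.ker_conjNormal s.R]
  exact h1

/-- A 2-element outside `C` lies in only one Sylow subgroup. -/
theorem outside {S T : Sylow 2 G} {g : G} (hS : g ∈ (S : Subgroup G)) (hT : g ∈ (T : Subgroup G))
    (hg : g ∉ s.C) : S = T := by
  by_contra hne
  have := s.inter S T hne
  refine hg (Subgroup.mem_centralizer_iff.2 fun r hr => ?_)
  exact (commute_of_mem (K := (S : Subgroup G) ⊓ (T : Subgroup G)) ⟨s.R_le S hr, s.R_le T hr⟩
    ⟨hS, hT⟩).eq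

/-- A good involution lies in only one Sylow subgroup. -/
theorem good_unique {a : G} (ha : s.Good a) {S T : Sylow 2 G} (hS : a ∈ (S : Subgroup G))
    (hT : a ∈ (T : Subgroup G)) : S = T := by
  by_contra hne
  have := s.inter S T hne
  obtain ⟨z, hz, hz2⟩ := s.exists_z
  exact ha.2.2 ((invol_eq (K := (S : Subgroup G) ⊓ (T : Subgroup G)) ⟨hS, hT⟩
    ⟨s.R_le S hz, s.R_le T hz⟩ ha.1 hz2) ▸ hz)

theorem exists_good : ∃ a, s.Good a := by
  by_contra h
  push Not at h
  have := s.normal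
  have hCn := s.C_normal
  have := s.cyc
  have hinvol : ∀ x ∈ s.C, orderOf x = 2 → x ∈ s.R := fun x hx hx2 =>
    Classical.not_not.1 fun hn => h x ⟨hx2, hx, hn⟩
  obtain ⟨Q⟩ := (inferInstance : Nonempty (Sylow 2 s.C))
  have hu : ∀ x y : (Q : Subgroup s.C), orderOf x = 2 → orderOf y = 2 →
      y ∈ Subgroup.zpowers x := by
    intro x y hx hy
    rw [← Subgroup.orderOf_coe, ← Subgroup.orderOf_coe] at hx hy
    have : ((x : s.C) : G) = ((y : s.C) : G) :=
      invol_eq (K := s.R) (hinvol _ (x : s.C).2 hx) (hinvol _ (y : s.C).2 hy) hx hy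
    rw [Subtype.ext (Subtype.ext this)]
    exact Subgroup.mem_zpowers y
  obtain ⟨r, hr, hr2⟩ := s.exists_four
  have hrQ : (⟨r, s.R_le_C hr⟩ : s.C) ∈ (Q : Subgroup s.C) :=
    (Cores.le_pCore (N := s.R.subgroupOf s.C)
      (s.two.of_equiv (Subgroup.subgroupOfEquivOfLe s.R_le_C).symm)).trans
      (Cores.pCore_le_sylow Q) (show r ∈ s.R from hr)
  have hcyc : IsCyclic (Q : Subgroup s.C) := by
    refine (PGroups.isCyclic_or_quaternion Q.2 hu).resolve_right ?_
    rintro ⟨-, n, hn, ⟨e⟩⟩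
    have hc : ∀ q, e ⟨_, hrQ⟩ * q = q * e ⟨_, hrQ⟩ := fun q => by
      rw [← e.apply_symm_apply q, ← map_mul, ← map_mul]
      exact congrArg e (Subtype.ext (Subtype.ext (s.comm (e.symm q : s.C).2 hr)))
    have h1 := quaternion_central_sq hn _ hc
    rw [← map_mul, MulEquiv.map_eq_one_iff] at h1
    exact hr2 (congrArg (fun x : (Q : Subgroup s.C) => ((x : s.C) : G)) h1)
  obtain ⟨z, hz, hz2⟩ := s.exists_z
  have hmin : (Nat.card s.C).minFac = 2 := by
    rw [Nat.minFac_eq_two_iff, ← hz2, ← Subgroup.orderOf_mk z (s.R_le_C hz)]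
    exact orderOf_dvd_natCard _
  have hK := hcyc.isComplement' hmin
  set K := (MonoidHom.transferSylow Q (hcyc.normalizer_le_centralizer hmin)).ker with hKdef
  have h2 : ¬ 2 ∣ Nat.card K := by
    rw [← hK.index_eq_card]
    exact Q.not_dvd_index
  have hle : K ≤ Cfsg.pPrimeCore 2 s.C :=
    Cores.le_pPrimeCore (p := 2) ((Nat.prime_two.coprime_iff_not_dvd.2 h2).symm)
  have hcore : (Cfsg.pPrimeCore 2 s.C).map s.C.subtype = ⊥ := by
    refine s.oddFree _ (Cores.normal_map_subtype s.C _) ?_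
    rw [Subgroup.card_map_of_injective s.C.subtype_injective, ← Nat.coprime_two_right]
    exact Cores.pPrimeCore_coprime 2
  rw [Subgroup.map_eq_bot_iff_of_injective _ s.C.subtype_injective] at hcore
  have hKbot : K = ⊥ := le_bot_iff.1 (hcore ▸ hle)
  have hQtop : (Q : Subgroup s.C) = ⊤ := Subgroup.eq_top_of_card_eq _ (by
    rw [← hK.card_mul_card, hKbot]; simp)
  have hC2 : IsPGroup 2 s.C :=
    (hQtop ▸ Q.2 : IsPGroup 2 (⊤ : Subgroup s.C)).of_equiv Subgroup.topEquiv
  have hG : IsPGroup 2 G :=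
    Basic.isPGroup_of_aut s.R hC2 (Basic.isPGroup_mulAut_of_cyclic s.two)
  obtain ⟨S, T, hne⟩ := s.moved
  have htop : IsPGroup 2 (⊤ : Subgroup G) := hG.of_equiv Subgroup.topEquiv.symm
  exact hne (Sylow.ext ((S.3 htop le_top).symm.trans (T.3 htop le_top)))

/-- A 2-element inverted by a good involution in two different Sylow subgroups lies in `R`. -/
theorem inverted_mem_R {a w : G} (ha : s.Good a) {k : ℕ} (hk : w ^ 2 ^ k = 1)
    (hinv : a * w * a = w⁻¹) {S T : Sylow 2 G} (hne : S ≠ T) (hS : w ∈ (S : Subgroup G))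
    (hT : w ∈ (T : Subgroup G)) : w ∈ s.R := by
  have := s.inter S T hne
  have hR : s.R ≤ (S : Subgroup G) ⊓ (T : Subgroup G) := le_inf (s.R_le S) (s.R_le T)
  have hwK : w ∈ (S : Subgroup G) ⊓ (T : Subgroup G) := ⟨hS, hT⟩
  obtain ⟨n, hn⟩ := IsPGroup.iff_card.1 s.two
  obtain ⟨m, hm⟩ := IsPGroup.iff_card.1 (isPGroup_zpowers hk)
  rw [Nat.card_zpowers] at hm
  rcases le_total m n with hmn | hnm
  · exact mem_of_pow_card hR hwK
      (orderOf_dvd_iff_pow_eq_one.1 (hm ▸ hn ▸ pow_dvd_pow 2 hmn))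
  · exfalso
    obtain ⟨r, hr, hr2⟩ := s.exists_four
    have hrw : r ∈ Subgroup.zpowers w := by
      refine mem_of_pow_card (K := (S : Subgroup G) ⊓ (T : Subgroup G))
        (Subgroup.zpowers_le.2 hwK) (hR hr) ?_
      rw [Nat.card_zpowers, hm, ← orderOf_dvd_iff_pow_eq_one]
      exact (Subgroup.orderOf_dvd_natCard _ hr).trans (hn ▸ pow_dvd_pow 2 hnm)
    obtain ⟨i, hi⟩ := Subgroup.mem_zpowers_iff.1 hrw
    have h1 := invert_zpow (invol_mul_self ha.1) hinv i
    rw [zpow_neg, hi, mul_assoc, s.comm ha.2.1 hr, ← mul_assoc, invol_mul_self ha.1, one_mul] at h1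
    exact hr2 (mul_eq_one_iff_eq_inv.2 h1)

omit [Finite G] in
/-- An involution and a 2-element inverted by it lie in a common Sylow subgroup. -/
theorem exists_sylow_invol_mem {a w : G} (ha : orderOf a = 2) {k : ℕ} (hk : w ^ 2 ^ k = 1)
    (hinv : a * w * a = w⁻¹) :
    ∃ S : Sylow 2 G, a ∈ (S : Subgroup G) ∧ w ∈ (S : Subgroup G) := by
  have hA : IsPGroup 2 (Subgroup.zpowers a) :=
    isPGroup_zpowers (k := 1) (by rw [pow_one, ← ha, pow_orderOf_eq_one])
  have hn : Subgroup.zpowers a ≤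
      Subgroup.normalizer ((Subgroup.zpowers w : Subgroup G) : Set G) := by
    refine Subgroup.zpowers_le.2 (Subgroup.mem_normalizer_iff.2 fun x => ?_)
    have key : ∀ y ∈ Subgroup.zpowers w, a * y * a⁻¹ ∈ Subgroup.zpowers w := by
      rintro _ ⟨i, rfl⟩
      rw [invol_inv ha]
      exact ⟨-i, (invert_zpow (invol_mul_self ha) hinv i).symm⟩
    refine ⟨key x, fun hx => ?_⟩
    have h2 := key _ hx
    rwa [invol_inv ha, ← mul_assoc, ← mul_assoc, invol_mul_self ha, one_mul, mul_assoc,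
      invol_mul_self ha, mul_one] at h2
  obtain ⟨S, hS⟩ := (hA.to_sup_of_normal_right' (isPGroup_zpowers hk) hn).exists_le_sylow
  exact ⟨S, hS (Subgroup.mem_sup_left (Subgroup.mem_zpowers a)),
    hS (Subgroup.mem_sup_right (Subgroup.mem_zpowers w))⟩

/-- The product of good involutions in different Sylow subgroups has odd order modulo `R`. -/
theorem odd_pow_mem_R {a u : G} (ha : s.Good a) (hu : s.Good u) {S T : Sylow 2 G}
    (hS : a ∈ (S : Subgroup G)) (hT : u ∈ (T : Subgroup G)) (hne : S ≠ T) :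
    ∃ o : ℕ, Odd o ∧ (a * u) ^ o ∈ s.R := by
  obtain ⟨e, o, ho, -, h2, -⟩ := exists_order_split (a * u)
  refine ⟨o, ho, ?_⟩
  have ha1 := invol_mul_self ha.1
  have hu1 := invol_mul_self hu.1
  have hinva : a * (a * u) ^ o * a = ((a * u) ^ o)⁻¹ := by
    rw [← zpow_natCast, invert_zpow ha1 (invert_mul ha1 hu1), zpow_neg]
  have hinvu : u * (a * u) ^ o * u = ((a * u) ^ o)⁻¹ := by
    have h0 : u * (a * u) * u = (a * u)⁻¹ := by
      rw [mul_inv_rev, invol_inv ha.1, invol_inv hu.1, mul_assoc, mul_assoc a u u, hu1, mul_one]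
    rw [← zpow_natCast, invert_zpow hu1 h0, zpow_neg]
  obtain ⟨S', haS', hwS'⟩ := exists_sylow_invol_mem ha.1 h2 hinva
  obtain ⟨T', huT', hwT'⟩ := exists_sylow_invol_mem hu.1 h2 hinvu
  exact s.inverted_mem_R ha h2 hinva hne (s.good_unique ha haS' hS ▸ hwS')
    (s.good_unique hu huT' hT ▸ hwT')

/-- A swapping involution. -/
theorem exists_swap {a u : G} (ha : s.Good a) (hu : s.Good u) {S T : Sylow 2 G}
    (hS : a ∈ (S : Subgroup G)) (hT : u ∈ (T : Subgroup G)) (hne : S ≠ T) :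
    ∃ m, s.Good m ∧ m • S = T ∧ m • T = S ∧ m * a * m * u ∈ s.R := by
  obtain ⟨o, ⟨j, rfl⟩, hw⟩ := s.odd_pow_mem_R ha hu hS hT hne
  have ha1 := invol_mul_self ha.1
  have hu1 := invol_mul_self hu.1
  set v := a * u with hv
  set m := v ^ j * a with hm
  have hva : a * v ^ j * a = (v ^ j)⁻¹ := by
    rw [← zpow_natCast, invert_zpow ha1 (invert_mul ha1 hu1), zpow_neg]
  have hmm : m * m = 1 := by
    rw [hm, ← mul_assoc (v ^ j * a), mul_assoc (v ^ j), mul_assoc (v ^ j), hva, mul_inv_cancel]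
  have hminv : m⁻¹ = m := inv_eq_of_mul_eq_one_right hmm
  have hmam : m * a * m = v ^ (2 * j + 1) * u := by
    calc m * a * m = v ^ j * (a * a) * (v ^ j * a) := by rw [hm]; simp only [mul_assoc]
      _ = v ^ (2 * j) * a := by rw [ha1, mul_one, ← mul_assoc, ← pow_add, two_mul]
      _ = v ^ (2 * j + 1) * u := by
        rw [pow_succ, hv]; simp only [mul_assoc]; rw [hu1, mul_one]
  have hR : m * a * m * u ∈ s.R := by rw [hmam, mul_assoc, hu1, mul_one]; exact hw
  have hgood : s.Good (m * a * m) := by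
    have := s.good_conj ha m
    rwa [hminv] at this
  have hmaT : m * a * m ∈ (T : Subgroup G) := by
    rw [hmam]; exact Subgroup.mul_mem _ (s.R_le T hw) hT
  have hmaS : m * a * m ∈ ((m • S : Sylow 2 G) : Subgroup G) := by
    have := conj_mem_smul hS m
    rwa [hminv] at this
  have hST : m • S = T := s.good_unique hgood hmaS hmaT
  have hTS : m • T = S := by rw [← hST, smul_smul, hmm, one_smul]
  have hmne : m ≠ 1 := fun h => hne (by rw [← hST, h, one_smul])
  have hmC : m ∈ s.C :=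
    Subgroup.mul_mem _ (Subgroup.pow_mem _ (Subgroup.mul_mem _ ha.2.1 hu.2.1) j) ha.2.1
  refine ⟨m, ⟨invol_iff.2 ⟨hmm, hmne⟩, hmC, fun hmR => hne ?_⟩, hST, hTS, hR⟩
  rw [← hST]
  exact (Sylow.smul_eq_iff_mem_normalizer.2 (Subgroup.le_normalizer (s.R_le S hmR))).symm

end Setup

end Cfsg.Agent.Lib.SylowInter.CyclicTwoCore
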